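import Cfsg.Agent.McLType.Gens
import Cfsg.Agent.McLType.Glue
set_option linter.all false

/-!
# The McLaughlin group as a group generated by seven involutions

`m : Fin 7 → G1` (`G1` = joint stabiliser in `Co0` of two lattice vectors, isomorphic to `Spor.McL`), generating, and
the glue theorem: a nontrivial group generated by seven elements satisfying relators which hold in the model and which
bound the order by 898128000 is isomorphic to `Spor.McL`.
-/

set_option autoImplicit false

namespace Cfsg.Agent.McLType.Model

open Cfsg Cfsg.Agent.SporadicStructure.PermChain Cfsg.Agent.McLType.X275 Cfsg.Agent.McLType.Gens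

instance : IsSimpleGroup G1 := isMcL_G1.1

instance : Finite G1 := Nat.finite_of_card_ne_zero (by rw [card_G1]; norm_num)

/-- The seven generators. -/
noncomputable def m (k : Fin 7) : G1 := (exists_gen k).choose

theorem ψ_m (k : Fin 7) : ψ (m k) = σ k := (exists_gen k).choose_spec

theorem closure_m : Subgroup.closure (Set.range m) = ⊤ := by
  have h1 : (Subgroup.closure (Set.range m)).map ψ = Subgroup.closure (Set.range σ) := by
    rw [MonoidHom.map_closure, ← Set.range_comp]
    congr 2
    funext k
    exact ψ_m k
  have h2 : Nat.card (Subgroup.closure (Set.range m)) = Nat.card (Subgroup.closure (Set.range σ)) := by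
    rw [← h1]
    exact Nat.card_congr ((Subgroup.closure (Set.range m)).equivMapOfInjective ψ ψ_injective).toEquiv
  apply Subgroup.eq_top_of_le_card
  rw [card_G1, h2]
  exact card_ge

/-- The word `w` acts trivially on the 275 vectors. -/
def idCheck (w : List (Fin 7)) : Bool :=
  allBelow (fun i => Nat.beq (evalWord 9 tabs (w.map (fun k => (k : ℕ))) i) i) 275

theorem evalWord_σ (w : List (Fin 7)) (i : Fin 275) :
    ((w.map σ).prod i : ℕ) = evalWord 9 tabs (w.map (fun k => (k : ℕ))) i := by
  induction w with
  | nil => rfl
  | cons s w ih =>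
    rw [List.map_cons, List.prod_cons, Equiv.Perm.mul_apply, σ_spec, ih]
    rfl

theorem word_m {w : List (Fin 7)} (h : idCheck w = true) : (w.map m).prod = 1 := by
  apply ψ_injective
  rw [map_list_prod, map_one, List.map_map]
  have h1 : (fun k => ψ (m k)) = σ := funext ψ_m
  have h2 : (ψ ∘ m) = σ := h1
  rw [h2]
  refine Equiv.ext fun i => Fin.ext ?_
  rw [evalWord_σ]
  exact Nat.eq_of_beq_eq_true (allBelow_spec _ _ h i i.2)

universe u

/-- The glue theorem. -/
theorem isoMcL_of_bound (R : List (List (Fin 7))) (hR : R.all idCheck = true)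
    (hbound : ∀ (H : Type u) [Group H] (h : Fin 7 → H), (∀ r ∈ R, (r.map h).prod = 1) →
      Subgroup.closure (Set.range h) = ⊤ → Finite H ∧ Nat.card H ≤ 898128000)
    {G : Type u} [Group G] [Nontrivial G] (g : Fin 7 → G) (hg : ∀ r ∈ R, (r.map g).prod = 1)
    (hgen : Subgroup.closure (Set.range g) = ⊤) : Spor.IsoMcL G := by
  have hm : ∀ r ∈ R, (r.map m).prod = 1 := fun r hr => word_m (List.all_eq_true.1 hR r hr)
  have h1 : ∀ r ∈ R, (r.map fun i => (g i, m i)).prod = 1 := by
    intro r hr
    have h2 : ∀ l : List (Fin 7), (l.map fun i => (g i, m i)).prod = ((l.map g).prod, (l.map m).prod) := by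
      intro l
      induction l with
      | nil => rfl
      | cons a l ih => rw [List.map_cons, List.prod_cons, ih]; rfl
    rw [h2, hg r hr, hm r hr]
    rfl
  obtain ⟨hfin, hcard⟩ := hbound (Subgroup.closure (Set.range fun i => (g i, m i)))
    (fun i => ⟨(g i, m i), Subgroup.subset_closure ⟨i, rfl⟩⟩)
    (fun r hr => by
      apply Subtype.ext
      have h3 : ∀ l : List (Fin 7), ((l.map fun i => (⟨(g i, m i), Subgroup.subset_closure ⟨i, rfl⟩⟩ :
          Subgroup.closure (Set.range fun i => (g i, m i)))).prod : G × G1) = (l.map fun i => (g i, m i)).prod := by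
        intro l
        induction l with
        | nil => rfl
        | cons a l ih => rw [List.map_cons, List.prod_cons, List.map_cons, List.prod_cons, ← ih]; rfl
      rw [h3, h1 r hr]
      rfl)
    (by
      have := Subgroup.closure_closure_coe_preimage (k := Set.range fun i => (g i, m i))
      convert this using 2
      ext x
      constructor
      · rintro ⟨i, rfl⟩
        exact ⟨i, rfl⟩
      · rintro ⟨i, hi⟩
        exact ⟨i, Subtype.ext hi⟩)
  obtain ⟨e⟩ := Glue.nonempty_equiv g m hgen closure_m hfin (by rw [card_G1]; exact hcard)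
  obtain ⟨e'⟩ := isoMcL_G1
  exact ⟨e.trans e'⟩

end Cfsg.Agent.McLType.Model
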