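import Cfsg.Agent.SporadicStructure.PermChain
set_option linter.all false

/-!
Stabiliser chains with tables given level by level (each level is given by a list of packed tables, every table being a
word in the tables of the previous level).
-/

set_option autoImplicit false

namespace Cfsg.Agent.McLType.Chain

open Cfsg.Agent.SporadicStructure.PermChain

variable {m : ℕ}

/-- The table `t` describes an element of `K`. -/
def InK (w : ℕ) (K : Subgroup (Equiv.Perm (Fin m))) (t : ℕ) : Prop :=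
  ∃ τ ∈ K, ∀ x : Fin m, (τ x : ℕ) = look w t x

theorem InK.inv {w t t' : ℕ} {K : Subgroup (Equiv.Perm (Fin m))} (h : InK w K t)
    (hc : permCheck w m t t' = true) : InK w K t' := by
  obtain ⟨τ, hτ, h⟩ := h
  refine ⟨τ⁻¹, K.inv_mem hτ, fun x => ?_⟩
  have h1 := permCheck_spec hc x x.2
  have h2 : τ ⟨look w t' x, h1.2.1⟩ = x := Fin.ext ((h _).trans h1.2.2.2)
  have h3 : τ⁻¹ x = ⟨look w t' x, h1.2.1⟩ := by
    rw [Equiv.Perm.inv_eq_iff_eq, h2]
  rw [h3]

/-- Words for a list of tables describing elements of `K`. -/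
theorem InK.evalW {w : ℕ} {K : Subgroup (Equiv.Perm (Fin m))} (ts : List ℕ)
    (hts : ∀ t ∈ ts, InK w K t) (l : List ℕ) (hl : ∀ s ∈ l, s < ts.length) :
    ∃ τ ∈ K, ∀ x : Fin m, (τ x : ℕ) = SporadicStructure.PermChain.evalWord w ts l x := by
  induction l with
  | nil => exact ⟨1, K.one_mem, fun x => rfl⟩
  | cons s l ih =>
    obtain ⟨τ, hτ, h⟩ := ih fun s hs => hl s (List.mem_cons_of_mem _ hs)
    have hs := hl s List.mem_cons_self
    obtain ⟨ρ, hρ, h'⟩ := hts (ts.getD s 0) (by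
      rw [List.getD_eq_getElem _ _ hs]
      exact List.getElem_mem hs)
    refine ⟨ρ * τ, K.mul_mem hρ hτ, fun x => ?_⟩
    rw [Equiv.Perm.mul_apply, h', h]
    rfl

theorem InK.word {w : ℕ} {K : Subgroup (Equiv.Perm (Fin m))} {ts : List ℕ}
    (hts : ∀ t ∈ ts, InK w K t) {l : List ℕ} {t : ℕ}
    (h : (l.all (fun s => Nat.blt s ts.length) && wordCheck w m ts l t) = true) : InK w K t := by
  rw [Bool.and_eq_true, List.all_eq_true] at h
  obtain ⟨τ, hτ, h1⟩ := InK.evalW ts hts l (fun s hs => by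
    have := h.1 s hs
    rwa [Nat.blt_eq] at this)
  refine ⟨τ, hτ, fun x => ?_⟩
  rw [h1]
  exact Nat.eq_of_beq_eq_true (allBelow_spec _ _ h.2 x x.2)

/-- The group generated by the permutations described by the tables in `L`. -/
def lev (w : ℕ) (m : ℕ) (L : List ℕ) : Subgroup (Equiv.Perm (Fin m)) :=
  Subgroup.closure {τ | ∃ t ∈ L, ∀ x : Fin m, (τ x : ℕ) = look w t x}

theorem lev_le {w : ℕ} {K : Subgroup (Equiv.Perm (Fin m))} {L : List ℕ}
    (h : ∀ t ∈ L, InK w K t) : lev w m L ≤ K := by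
  rw [lev, Subgroup.closure_le]
  rintro τ ⟨t, ht, hτ⟩
  obtain ⟨ρ, hρ, h'⟩ := h t ht
  have : τ = ρ := Equiv.ext fun x => Fin.ext ((hτ x).trans (h' x).symm)
  rw [this]
  exact hρ

theorem InK.lev {w : ℕ} {K : Subgroup (Equiv.Perm (Fin m))} {L : List ℕ}
    (h : ∀ t ∈ L, InK w K t) : ∀ t ∈ L, InK w (lev w m L) t := by
  intro t ht
  obtain ⟨ρ, hρ, h'⟩ := h t ht
  exact ⟨ρ, Subgroup.subset_closure ⟨t, ht, h'⟩, h'⟩

/-- One step of the chain. -/
theorem step {w : ℕ} {K : Subgroup (Equiv.Perm (Fin m))} (L L' : List ℕ) (b : Fin m) (d mask n : ℕ)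
    (hL : ∀ t ∈ L, InK w K t) (hL' : ∀ t ∈ L', InK w K t)
    (hfix : L'.all (fun t => Nat.beq (look w t b) b) = true)
    (hmask : Nat.beq (grow w m L d (Nat.shiftLeft 1 b)) mask = true)
    (hn : ((Finset.range m).filter fun y => Nat.testBit mask y = true).card = n) :
    n * Nat.card (Chain.lev w m L') ≤ Nat.card K := by
  refine card_step_mask (w := w) K b (Chain.lev w m L') (lev_le hL') ?_ L hL d mask n hmask hn
  apply fixes_of_closure
  rintro τ ⟨t, ht, hτ⟩
  rw [List.all_eq_true] at hfix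
  exact Fin.ext ((hτ b).trans (Nat.eq_of_beq_eq_true (hfix t ht)))

end Cfsg.Agent.McLType.Chain
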