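import Cfsg.Agent.McLType.Model
import Cfsg.Agent.McLType.Chain
set_option linter.all false

/-!
# Elements of order 3 of the McLaughlin group

Every element of order 3 of `G1` (the McLaughlin group) commutes with an involution: a Sylow 3-subgroup of order 729 is
given by a polycyclic sequence of six permutations of the 275 vectors, and the elements of order 3 of it are conjugate
to powers of twenty elements which commute with explicit involutions.
-/

set_option autoImplicit false

namespace Cfsg.Agent.McLType.ThreeElts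

open Cfsg Cfsg.Agent.SporadicStructure.PermChain Cfsg.Agent.McLType.Chain Cfsg.Agent.McLType.X275
  Cfsg.Agent.McLType.Gens Cfsg.Agent.McLType.Model

/-! ### Data -/

/-- The six words. -/
def Ws : List (List (Fin 7)) := [[1, 3, 5, 6, 5, 3],
  [1, 2, 6],
  [1, 2, 6, 1, 5, 6, 5, 1, 2, 6, 1, 5, 6, 5],
  [1, 2, 6, 3, 5, 6, 5, 1, 3, 2, 6, 3, 5, 6, 5, 3],
  [1, 5, 6, 5, 3, 2, 6, 1, 3, 5, 6, 5, 3, 2, 6, 3],
  [1, 3, 2, 6, 1, 5, 6, 5, 1, 2, 6, 1, 5, 6, 5, 3]]

def P0 : ℕ := 0x3fe250f8241619038443a12fd83402151086c0a030788bfa16a25fb7910907bae588ab44b9ddea06ea31e49c61b85d28b76aa990e47d27dc0ea5b38de28d63aa114e54d2917adf7db094ceb5c3d974be563d536d85724928ca682d52e8669ab560914c2cd9cb14b351a4b466a1d9ed54ab6d986339a08aa602c99c9e622b1f8b0753d150b48130994b8773da00c8742820cf27026944da6a3717cd8692e9c4a4a963399d8b751bf13ca760b89788e5da75e0c57a28580f847ba1b8f352bb9f28568a65aeaf65b5992da6ca4d64662d9d8f872271fd087d2b9a0f05e3594cde431d91472480b85066251408802110107c18041a03860092111c824b251107c491c0fc803c1e918744c0d0986418098dc2c191885436270307024051b00c1a2a050805a08078a43c2b0588c5e0708074482c108b86a00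
def P1 : ℕ := 0x3d9df0e42431f1107828a127111c1cb2824cb5cd857692b1310f76c45f2a97bb6d80c862b198e7a7d3f9b05a458bcc6f11b9f94cf32506c60ea3c9b9860d893b1fafb403117abe08b4156ff43bac8ccf46281a847740d9c87719ab8309f39b243e6171131c64113011bc9a668f1be3b1291452ee41c0e1a6f33100a108409711c5f7a9f448195925954d9542d12b0152b4c1ce64e9e0560b67074e82166228a2fc689f0f7020d240bd0451c2d62a16b1fcc40f1116149054bad4da9427ba47e72739556e07350186a1c65279230a2db68e068299354e6b80214a4932a028404318ae5c2487a2cd84645d05c58e50b12c7a9b1a2d8700933bc978b06e8c87c497022084b80f0a0021460994208f832fc5c566aa350c125d9d80a27169a42a2a2718124af4497418dc6584c7208221d5383a018095a00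
def P2 : ℕ := 0x3759ca253971090a0e9c21308359522103733b92c93691d1ea551122c2afc7bb0c0c171311d8e8675a257e9c228e128f168c11ceb725389d43948c49bc44198153e737f1e83e046c341caff6fab898b1723296c2d743d0cb0b373e8ec75490e9aa9b5d8a9c63565ab5b66a5d0b0ba3434c45920f532421ea3548dcb0a42b41426a031285821c20ba4fcc03d98c049a393b59e7c1393820f36135a04dc3c9de0c66202649aac122091caa102281c0a7827530d769c00e30c40bd92ab4289b0565341c34162180b6564da2f9e198592d8661c5752aa1f0852808e0e68291f4de281f2e5c0482110dde880a3c978670f0c464b85800492e155b20783b5a80c962f048306c6157acda8cd0d2307e18278441a975e89588ec0da3c247f6323410464f169f6164021cc8076297860f9173f4c0291e9b57c00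
def P3 : ℕ := 0xcc8a9038399447e6220a12ca0982954f87e2d1c823253a5ea590bab8045c7bb740ce744901a477611a85a277d12416ff08954440f63a90723000b6d6a0c618613e424d228764123ae5f6e31d3bc86045606d703768394e81d6f33840751b0b068cc388a1e20e400d5ec262637c524b12bac786376a121405862fca85f301f0d0bb31140f61a589961ec00cadc64c527b217c66409c856ee889e8d82e5b3c0f1056c2a438965429d270d093595a584325d30947914940994e4487af34f2307e5169c41ae4465b659e2471295a9042db0606858336a1c5e83a39426b3ec01d8140fba0124833ae916071520cba730b2f42a79189845ee0492990e3e37021aa387088556910f335364626c0820a327319105a58236168f841bcec56689a4dab329a75e8af80b25b80d7f15dd495323f4febc7c80d6400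
def P4 : ℕ := 0x155324268a48e6220e844b6ca0181c8e2d1b0800a1e3e0700ca645c2922ab7bc11faae4eba20a8653a5d6a3e54b2d1ea275b21de7f333896e0f50bf1f03c2c8253ee34e229344e5caa88a904f1f84c4f0c06c146e883389b0b81c319a986d94d2893389b1085712178b85a35144a40b02208f0566e99dcee072b7910a41cbc810bb310545031390682e750a1800227128cc26830f9a4ba76381e8f6352a1dc18d3683d160a31c3195e40233590a0d7813180ec250fd40fb1db9874121e864529569360dec96d364d62f2f88446ed240a97edc221246e2e01058646d080ac688c7f435590978a261eb88131e00ff4d9d0c2583294100e48930d4ac5872c9af014b21ded076a2d11cf35eb0578e146b096c4374905884b8435566ea88ac59eee7cae9f4cc544195a7940990c6df073d4607d162f8d000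
def P5 : ℕ := 0x3a0dca92a9f1325c0e966121b2714d4e843303c1657458980d104936c3d057bae5fa3665b45de776ea00ce766f0c604455343556fe573887c1f4db1de208681bdb2f479b588cc9633086efa5e3d870876bc205873758b4d50b71ad4fe75419742835388259c913a185a501178a4f22a10b0d649a23c31f88f7c1093ca413c3ce4bb4fa4c309d1e225ccc051b142cee52900830a101e00eb719a2958151d3c0d07e08c0cb4940e410bc702b1e8025143091308c0b961410e0912820633ea581a5211208d80332988084d2f9ac1caa2d81520a109869445011a151c4f2a02832e166c45aa487292624f97039d70fb6e1315edf5d3317a4b793619eb37f9a450b01a1b5a6d4320c15aea4bb9110ec833b47aa82191188c1651ecc09c640304a39803697e2e74af864955a41c763f013d502b615a356200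
/-- The tables of the six permutations. -/
def pt : List ℕ := [P0, P1, P2, P3, P4, P5]
/-- Conjugation relations. -/
def rels3 : List (ℕ × ℕ × List ℕ) := [(0, 1, [1, 3]), (0, 2, [2, 3, 3]), (0, 3, [3]), (0, 4, [2, 3, 4]), (0, 5, [5]), (1, 2, [2]), (1, 3, [3]), (1, 4, [3, 4, 5, 5]), (1, 5, [3, 5]), (2, 3, [3]), (2, 4, [4]), (2, 5, [5]), (3, 4, [4]), (3, 5, [5]), (4, 5, [5])]
/-- Certificates (packed, 20 bits each): exponent, class, conjugating element. -/
def cert : ℕ := 0x3b60000000000000000000000000000000000000000004360000000000000000000000000000000000000000003320000000000000000000000000000000000000000003b200000000000000000000000000000000000000000043200000000000000000000000000000000000000000033a0000000000000000000000000000000000000000003ba00000000000000000000000000000000000000000043a0000000000000000000000000000000000000000003360000000000000000000000000000000000000000002b10000000000000000000000000000000000000000002310000000000000000000000000000000000000000001b900000000000000000000000000000000000000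00002b50000000000000000000000000000000000000000002350000000000000000000000000000000000000000001b10000000000000000000000000000000000000000002b90000000000000000000000000000000000000000002390000000000000000000000000000000000000000001b5028a90000e028950288d0019a0512202d4202946001ca051890009e0292105a250018a054160004205146000ce0511902a26051050289d0512a0008605a4200346001be02d290030e02a150290d0001a051a202942028c6000ca051090001e028a1051250000a05116000c2051c60014e05199028a60518502d1d0caaa0000605142001c60033e0a2290018e0a2150298d0009a05222028c2029c60004a055890011e02a21055a50798a0529600142052c60004e0ca99029260ca850291d051aa00186055c2000460003e0000000000000000000000000000000000000000002360000000000000000000000000000000000000000002b60000000000000000000000000000000000000000001b20000000000000000000000000000000000000000002320000000000000000000000000000000000000000002b20000000000000000000000000000000000000000001ba00000000000000000000000000000000000000000023a0000000000000000000000000000000000000000002ba00000000000000000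00000000000000000000000001b60000000000000000000000000000000000000000004310000000000000000000000000000000000000000003b10000000000000000000000000000000000000000003390000000000000000000000000000000000000000004350000000000000000000000000000000000000000003b50000000000000000000000000000000000000000003310000000000000000000000000000000000000000004390000000000000000000000000000000000000000003b90000000000000000000000000000000000000000003350018905a26054150009d0510a02a2205145001410014d000990290e051210018d0a22a0a216029c502d41000c90caa90291e00085028a50511a0ca86001c5051410033d07989055a6052950011d0518a028a2052c5000c1000cd000190288e052210030d02d2a02a16028c5028c1001c90512902d1e0018502a250ca9a051860034505a41001bd0000905126051150001d0558a02922051c5000410004d001990298e051a10000d028aa02896029450294100049051a90289e00005029250519a0510600045055c10003d0000000000000000000000000000000000000000000b200000000000000000000000000000000000000000013200000000000000000000000000000000000000000003a00000000000000000000000000000000000000000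00ba00000000000000000000000000000000000000000013a0000000000000000000000000000000000000000000360000000000000000000000000000000000000000000b60000000000000000000000000000000000000000001360000000000000000000000000000000000000000000320000000000000000000000000000000000000000001390000000000000000000000000000000000000000000b90000000000000000000000000000000000000000000350000000000000000000000000000000000000000001310000000000000000000000000000000000000000000b10000000000000000000000000000000000000000000390000000000000000000000000000000000000000001350000000000000000000000000000000000000000000b500000000000000000000000000000000000000000003102d190511e07995000a5004aa000a2051020290100112004a900026001210529d02a1a0001602a020510100091028890518e0a2050518d02a0a0288600482001810002e02a190529e00015001a50002a00122055820288100092000a9001a6000a10511d02d1a07996028820518100111029090558e028850510d0290a0a20600182004810002d028990559e0f31500025000aa000220518202a010001200029000a6000210559d0289a0f31602902055810001102a090510e029050558d0288a02906000020000100000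
/-- The twenty elements and the words of the involutions commuting with them. -/
def classes : List (List ℕ × List (Fin 7)) := [([0], [6, 4, 5, 6, 3, 1, 0, 1, 3, 6, 5, 4, 6]),
  ([1, 1, 5], [4, 3, 1, 2, 1, 0, 1, 2, 1, 3, 4]),
  ([0, 0, 1, 1, 2, 2, 5], [6, 3, 5, 4, 6, 3, 0, 3, 6, 4, 5, 3, 6]),
  ([0, 0, 1, 2, 5], [5, 4, 0, 3, 1, 0, 1, 3, 0, 4, 5]),
  ([2], [5, 2, 1, 0, 1, 2, 5]),
  ([1, 1, 2, 2, 3], [3, 4, 2, 5, 6, 3, 0, 3, 6, 5, 2, 4, 3]),
  ([0, 0, 1, 1, 2, 3, 5], [5, 0, 3, 1, 0, 1, 3, 0, 5]),
  ([0, 0, 1, 2, 2, 5], [6, 0, 3, 0, 3, 0, 6]),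
  ([1, 1, 2], [2, 0, 2]),
  ([0, 0, 1, 2, 2], [6, 5, 4, 6, 3, 0, 3, 6, 4, 5, 6]),
  ([0, 0, 1, 1, 2], [5, 3, 4, 3, 0, 3, 4, 3, 5]),
  ([3], [0, 3, 6, 0, 6, 3, 0]),
  ([4], [0, 3, 6, 0, 6, 3, 0]),
  ([3, 3, 4], [0, 3, 6, 0, 6, 3, 0]),
  ([3, 4], [0, 3, 6, 0, 6, 3, 0]),
  ([5], [3, 4, 5, 1, 0, 1, 5, 4, 3]),
  ([0, 2, 2, 5], [4, 0, 3, 6, 2, 0, 2, 6, 3, 0, 4]),
  ([0, 0, 5], [3, 2, 0, 2, 3]),
  ([2, 5], [0, 3, 0, 3, 0]),
  ([2, 2, 5], [0, 3, 1, 0, 1, 3, 0])]
def S1 : ℕ := 0x349eca2863e108827826612712b88e2059871b1590777b5d30e6238cc57037bb1d8040773b55c8a6f2d022a8892f534ce39971b06345c203e3b6fbfda09525065ea373a0749841533ada64567b0dd4044b2801cc688a0c16777436cded97daf99acc2f8bdf4c980a1dc6f3182c85246109b8f2b773a40e07b8534526ca104150aa4031509aa358a514e620e03c7ee935889227c6d1a00f025ac2cd46d1ab58a4666443c30e44eaa4a0aa76310788e3d2053efe55945c47e123c44a8c528981a781b4358af9403f4c25a0d9f5a8fc2d868aa728025e084f05284b05e4f14cfe385d30868485f8e5ba0224a48ba2d6e0a820ad0a0e960d57285d6c435c8596631258f5e82c3202536e102a2510c1099082a9c141110c565d9811e76338315ee08309de42e65ae01032329387c69019d424bc468780200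
def S2 : ℕ := 0x3a224e682a9df1107143612d949a79f8a94cb2daea522bcdad0f73b79b90a7bb4914c65b90985086ec0524a3618e1131172c31f69a5730092e16fb4172af71a75e047772ec964120339e8fa1d3d898cc62a7d92a675b4604a463ad51f0b55a45aabc7eb35deb87f21de2ac232c9363e7cb6c78741b964f820330b4d0753b1709c063b9c8de18149a9081d1382c42263c0d858553f95c100f371c5001e1a86ca70369a8950e960a410b044e2815b07653b188b46c419eaaa6d1288896473907b0079439183f4a2199e974c285a8822d870e01335848fc513e82846522c17848ba5ea2dc048398a866160a19cba830a8c40e790f984122f5fbb56c3b7fa2160397523590be4aacd62433018c04192a05c56811a0c8be05311589a7b089b4c82827868440332838202536140602e349e8b404068300200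
def wS1 : List ℕ := [1, 3, 5]
def wS2 : List ℕ := [0, 1, 1, 2, 3]
def mk0 : ℕ := 0xc102000000901092005146a022482a61a023042b12619fc012b4245a2a4069759e
def mk1 : ℕ := 0x10000002000000000100004002040401004

/-! ### Polycyclic normal form -/

theorem mem_step {G : Type*} [Group G] (S : Set G) (p : G) (h3 : p ^ 3 = 1)
    (hS : ∀ y ∈ S, p * y * p⁻¹ ∈ Subgroup.closure S) (x : G) (hx : x ∈ Subgroup.closure (insert p S)) :
    ∃ i < 3, ∃ y ∈ Subgroup.closure S, x = p ^ i * y := by
  have hN : ∀ y ∈ Subgroup.closure S, p * y * p⁻¹ ∈ Subgroup.closure S := by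
    intro y hy
    have hle : Subgroup.closure S ≤ (Subgroup.closure S).comap (MulAut.conj p).toMonoidHom := by
      rw [Subgroup.closure_le]
      intro z hz
      exact hS z hz
    exact hle hy
  have h2 : p⁻¹ = p * p := by
    rw [inv_eq_iff_mul_eq_one, ← h3, pow_succ, pow_two, mul_assoc]
  have hN' : ∀ y ∈ Subgroup.closure S, p⁻¹ * y * p ∈ Subgroup.closure S := by
    intro y hy
    have h4 := hN _ (hN y hy)
    have h5 : p⁻¹ * y * p = p * (p * y * p⁻¹) * p⁻¹ := by
      have h6 : p = p⁻¹ * p⁻¹ := by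
        rw [← mul_inv_rev, ← h2, inv_inv]
      calc p⁻¹ * y * p = (p * p) * y * (p⁻¹ * p⁻¹) := by rw [← h2, ← h6]
        _ = p * (p * y * p⁻¹) * p⁻¹ := by group
    rw [h5]
    exact h4
  have hNi : ∀ i : ℕ, ∀ y ∈ Subgroup.closure S, (p ^ i)⁻¹ * y * p ^ i ∈ Subgroup.closure S := by
    intro i
    induction i with
    | zero => intro y hy; simpa using hy
    | succ i ih =>
      intro y hy
      have := hN' _ (ih y hy)
      have h5 : (p ^ (i + 1))⁻¹ * y * p ^ (i + 1) = p⁻¹ * ((p ^ i)⁻¹ * y * p ^ i) * p := by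
        rw [pow_succ]; group
      rw [h5]
      exact this
  induction hx using Subgroup.closure_induction_left with
  | one => exact ⟨0, by norm_num, 1, Subgroup.one_mem _, by simp⟩
  | mul_left z hz y hy ih =>
    obtain ⟨i, hi, w, hw, rfl⟩ := ih
    rcases hz with rfl | hz
    · rcases Nat.lt_or_ge (i + 1) 3 with h | h
      · exact ⟨i + 1, h, w, hw, by rw [pow_succ']; group⟩
      · have : i = 2 := by omega
        subst this
        refine ⟨0, by norm_num, w, hw, ?_⟩
        rw [← mul_assoc, ← pow_succ', h3]; simp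
    · refine ⟨i, hi, ((p ^ i)⁻¹ * z * p ^ i) * w,
        Subgroup.mul_mem _ (hNi i z (Subgroup.subset_closure hz)) hw, ?_⟩
      group
  | inv_mul_cancel z hz y hy ih =>
    obtain ⟨i, hi, w, hw, rfl⟩ := ih
    rcases hz with rfl | hz
    · rcases Nat.eq_zero_or_pos i with h | h
      · subst h
        refine ⟨2, by norm_num, w, hw, ?_⟩
        rw [h2, pow_zero, one_mul, pow_two]
      · obtain ⟨j, rfl⟩ : ∃ j, i = j + 1 := ⟨i - 1, by omega⟩
        exact ⟨j, by omega, w, hw, by rw [pow_succ']; group⟩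
    · refine ⟨i, hi, ((p ^ i)⁻¹ * z⁻¹ * p ^ i) * w,
        Subgroup.mul_mem _ (hNi i z⁻¹ (Subgroup.inv_mem _ (Subgroup.subset_closure hz))) hw, ?_⟩
      group

/-! ### The Sylow 3-subgroup -/

/-- The six permutations (indices `0..5`). -/
def π (s : ℕ) : Equiv.Perm (Fin 275) := ((Ws.getD s []).map σ).prod

def ptOK : Bool := allBelow (fun s => allBelow (fun x =>
  Nat.beq (evalWord 9 tabs ((Ws.getD s []).map (fun k => (k : ℕ))) x) (look 9 (pt.getD s 0) x)) 275) 6

theorem ptOK_eq : ptOK = true := by decide +kernel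

theorem π_spec (s : ℕ) (hs : s < 6) (x : Fin 275) : (π s x : ℕ) = look 9 (pt.getD s 0) x := by
  unfold π
  rw [evalWord_σ]
  exact Nat.eq_of_beq_eq_true (allBelow_spec _ _ (allBelow_spec _ _ ptOK_eq s hs) x x.2)

theorem evalπ (l : List ℕ) (hl : ∀ s ∈ l, s < 6) (x : Fin 275) :
    ((l.map π).prod x : ℕ) = evalWord 9 pt l x :=
  evalWord_spec pt π l (fun s hs x => π_spec s (hl s hs) x) x

/-- The normal form words. -/
def wn : ℕ → ℕ → ℕ → List ℕ
  | 0, _, _ => []
  | j + 1, k, N => List.replicate (N % 3) k ++ wn j (k + 1) (N / 3)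

theorem wn_lt (j : ℕ) : ∀ k N : ℕ, k + j ≤ 6 → ∀ s ∈ wn j k N, s < 6 := by
  induction j with
  | zero => intro k N _ s hs; exact absurd hs (List.not_mem_nil)
  | succ j ih =>
    intro k N hk s hs
    rw [wn, List.mem_append] at hs
    rcases hs with hs | hs
    · rw [List.eq_of_mem_replicate hs]; omega
    · exact ih (k + 1) (N / 3) (by omega) s hs

theorem wn6_lt (N : ℕ) : ∀ s ∈ wn 6 0 N, s < 6 := wn_lt 6 0 N le_rfl

/-- Generators of the terms of the series. -/
def Sk (k : ℕ) : Set (Equiv.Perm (Fin 275)) := {x | ∃ s, k ≤ s ∧ s < 6 ∧ x = π s}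

theorem Sk_eq (k : ℕ) (hk : k < 6) : Sk k = insert (π k) (Sk (k + 1)) := by
  ext x
  constructor
  · rintro ⟨s, h1, h2, rfl⟩
    rcases Nat.eq_or_lt_of_le h1 with h | h
    · subst h; exact Set.mem_insert _ _
    · exact Set.mem_insert_of_mem _ ⟨s, h, h2, rfl⟩
  · rintro (rfl | ⟨s, h1, h2, rfl⟩)
    · exact ⟨k, le_rfl, hk, rfl⟩
    · exact ⟨s, by omega, h2, rfl⟩

def cubeOK : Bool := allBelow (fun s => allBelow (fun x => Nat.beq (evalWord 9 pt [s, s, s] x) x) 275) 6

theorem cubeOK_eq : cubeOK = true := by decide +kernel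

theorem π_cube (s : ℕ) (hs : s < 6) : π s ^ 3 = 1 := by
  refine Equiv.ext fun x => Fin.ext ?_
  have h := evalπ [s, s, s] (by simp [hs]) x
  have h1 : ([s, s, s].map π).prod = π s ^ 3 := by simp [pow_succ, mul_assoc]
  rw [h1] at h
  rw [h]
  exact Nat.eq_of_beq_eq_true (allBelow_spec _ _ (allBelow_spec _ _ cubeOK_eq s hs) x x.2)

def relOK (i j : ℕ) (w : List ℕ) : Bool :=
  w.all (fun s => Nat.blt i s && Nat.blt s 6) &&
    allBelow (fun x => Nat.beq (evalWord 9 pt [i, j] x) (evalWord 9 pt (w ++ [i]) x)) 275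

theorem rels_all : rels3.all (fun r => relOK r.1 r.2.1 r.2.2) = true := by decide +kernel

theorem rels_cover : ∀ i : Fin 6, ∀ j : Fin 6, i < j → ∃ w, ((i : ℕ), (j : ℕ), w) ∈ rels3 := by
  have h : ∀ i : Fin 6, ∀ j : Fin 6, i < j →
      ∃ r ∈ rels3, r.1 = (i : ℕ) ∧ r.2.1 = (j : ℕ) := by decide
  intro i j hij
  obtain ⟨r, hr, h1, h2⟩ := h i j hij
  exact ⟨r.2.2, by rw [← h1, ← h2]; exact hr⟩

theorem conj_mem (i j : ℕ) (hij : i < j) (hj : j < 6) :
    π i * π j * (π i)⁻¹ ∈ Subgroup.closure (Sk (i + 1)) := by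
  obtain ⟨w, hw⟩ := rels_cover ⟨i, by omega⟩ ⟨j, hj⟩ hij
  have h := List.all_eq_true.1 rels_all _ hw
  change relOK i j w = true at h
  rw [relOK, Bool.and_eq_true, List.all_eq_true] at h
  obtain ⟨h1, h2⟩ := h
  have h1' : ∀ s ∈ w, i < s ∧ s < 6 := by
    intro s hs
    have := h1 s hs
    rwa [Bool.and_eq_true, Nat.blt_eq, Nat.blt_eq] at this
  have h3 : π i * π j = (w.map π).prod * π i := by
    refine Equiv.ext fun x => Fin.ext ?_
    have ha := evalπ [i, j] (by intro s hs; simp only [List.mem_cons, List.not_mem_nil, or_false] at hs; omega) x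
    have hb := evalπ (w ++ [i]) (by
      intro s hs
      rw [List.mem_append, List.mem_singleton] at hs
      rcases hs with hs | hs
      · exact (h1' s hs).2
      · omega) x
    have hc : ([i, j].map π).prod = π i * π j := by simp
    have hd : ((w ++ [i]).map π).prod = (w.map π).prod * π i := by simp
    rw [hc] at ha
    rw [hd] at hb
    rw [ha, hb]
    exact Nat.eq_of_beq_eq_true (allBelow_spec _ _ h2 x x.2)
  rw [h3, mul_inv_cancel_right]
  apply Subgroup.list_prod_mem
  intro y hy
  obtain ⟨s, hs, rfl⟩ := List.mem_map.1 hy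
  obtain ⟨ha, hb⟩ := h1' s hs
  exact Subgroup.subset_closure ⟨s, by omega, hb, rfl⟩

theorem exists_nf (j : ℕ) : ∀ k : ℕ, k + j = 6 → ∀ x ∈ Subgroup.closure (Sk k),
    ∃ N < 3 ^ j, x = ((wn j k N).map π).prod := by
  induction j with
  | zero =>
    intro k hk x hx
    have h1 : Sk k = ∅ := by
      ext y
      constructor
      · rintro ⟨s, h1, h2, -⟩; omega
      · intro h; exact absurd h (Set.notMem_empty y)
    rw [h1, Subgroup.closure_empty, Subgroup.mem_bot] at hx
    exact ⟨0, by norm_num, by rw [hx]; rfl⟩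
  | succ j ih =>
    intro k hk x hx
    rw [Sk_eq k (by omega)] at hx
    obtain ⟨i, hi, y, hy, rfl⟩ := mem_step (Sk (k + 1)) (π k) (π_cube k (by omega)) (by
      rintro y ⟨s, h1, h2, rfl⟩
      exact conj_mem k s (by omega) h2) x hx
    obtain ⟨M, hM, rfl⟩ := ih (k + 1) (by omega) y hy
    refine ⟨i + 3 * M, by rw [pow_succ]; omega, ?_⟩
    rw [wn, show (i + 3 * M) % 3 = i by omega, show (i + 3 * M) / 3 = M by omega, List.map_append,
      List.prod_append, List.map_replicate, List.prod_replicate]

/-- The Sylow 3-subgroup, in the group of permutations. -/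
def P : Subgroup (Equiv.Perm (Fin 275)) := Subgroup.closure (Sk 0)

/-- Normal form elements. -/
def nf (N : ℕ) : Equiv.Perm (Fin 275) := ((wn 6 0 N).map π).prod

theorem nf_apply (N : ℕ) (x : Fin 275) : (nf N x : ℕ) = evalWord 9 pt (wn 6 0 N) x :=
  evalπ _ (wn6_lt N) x

theorem exists_nf6 {x : Equiv.Perm (Fin 275)} (hx : x ∈ P) : ∃ N < 729, x = nf N :=
  exists_nf 6 0 rfl x hx

theorem π_mem (s : ℕ) (hs : s < 6) : π s ∈ P := Subgroup.subset_closure ⟨s, Nat.zero_le s, hs, rfl⟩

theorem word_mem (l : List ℕ) (hl : ∀ s ∈ l, s < 6) : (l.map π).prod ∈ P := by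
  apply Subgroup.list_prod_mem
  intro y hy
  obtain ⟨s, hs, rfl⟩ := List.mem_map.1 hy
  exact π_mem s (hl s hs)

theorem nf_mem (N : ℕ) : nf N ∈ P := word_mem _ (wn6_lt N)

def fixB (l : List ℕ) : Bool := Nat.beq (evalWord 9 pt l 1) 1 && Nat.beq (evalWord 9 pt l 2) 2

theorem faithOK : allBelow (fun N => Nat.beq N 0 || !(fixB (wn 6 0 N))) 729 = true := by decide +kernel

theorem eq_one_of_fix {x : Equiv.Perm (Fin 275)} (hx : x ∈ P) (h1 : x 1 = 1) (h2 : x 2 = 2) : x = 1 := by
  obtain ⟨N, hN, rfl⟩ := exists_nf6 hx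
  have h := allBelow_spec _ _ faithOK N hN
  rw [Bool.or_eq_true] at h
  rcases h with h | h
  · rw [Nat.eq_of_beq_eq_true h]
    rfl
  · exfalso
    rw [Bool.not_eq_true', ← Bool.not_eq_true] at h
    apply h
    rw [fixB, Bool.and_eq_true, Nat.beq_eq, Nat.beq_eq]
    have h3 := nf_apply N 1
    have h4 := nf_apply N 2
    rw [h1] at h3
    rw [h2] at h4
    exact ⟨h3.symm, h4.symm⟩

theorem eq_of_base {x y : Equiv.Perm (Fin 275)} (hx : x ∈ P) (hy : y ∈ P) (h1 : x 1 = y 1)
    (h2 : x 2 = y 2) : x = y := by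
  have h := eq_one_of_fix (P.mul_mem (P.inv_mem hy) hx)
    (by rw [Equiv.Perm.mul_apply, h1, Equiv.Perm.inv_eq_iff_eq])
    (by rw [Equiv.Perm.mul_apply, h2, Equiv.Perm.inv_eq_iff_eq])
  exact (inv_mul_eq_one.1 h).symm

theorem card_P_le : Nat.card P ≤ 729 := by
  have h : Function.Surjective (fun N : Fin 729 => (⟨nf N, nf_mem N⟩ : P)) := by
    rintro ⟨x, hx⟩
    obtain ⟨N, hN, rfl⟩ := exists_nf6 hx
    exact ⟨⟨N, hN⟩, rfl⟩
  have := Nat.card_le_card_of_surjective _ h
  simpa using this

theorem inP : ∀ t ∈ pt, InK 9 P t := by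
  intro t ht
  obtain ⟨k, hk, rfl⟩ := List.mem_iff_getElem.1 ht
  have hk' : k < 6 := hk
  refine ⟨π k, π_mem k hk', fun i => ?_⟩
  rw [π_spec k hk', List.getD_eq_getElem _ _ hk]

theorem in1 : ∀ t ∈ [S1, S2], InK 9 P t := by
  intro t ht
  simp only [List.mem_cons, List.not_mem_nil, or_false] at ht
  rcases ht with rfl | rfl
  · exact InK.word inP (l := wS1) (by decide +kernel)
  · exact InK.word inP (l := wS2) (by decide +kernel)

theorem orbP0 : Nat.beq (grow 9 275 pt 2 (Nat.shiftLeft 1 ((1 : Fin 275) : ℕ))) mk0 = true := by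
  decide +kernel
theorem cardP0 : ((Finset.range 275).filter fun y => Nat.testBit mk0 y = true).card = 81 := by
  decide +kernel
theorem orbP1 : Nat.beq (grow 9 275 [S1, S2] 3 (Nat.shiftLeft 1 ((2 : Fin 275) : ℕ))) mk1 = true := by
  decide +kernel
theorem cardP1 : ((Finset.range 275).filter fun y => Nat.testBit mk1 y = true).card = 9 := by
  decide +kernel

theorem card_P : Nat.card P = 729 := by
  have h0 : 81 * Nat.card (lev 9 275 [S1, S2]) ≤ Nat.card P :=
    step (w := 9) pt [S1, S2] 1 2 mk0 81 inP in1 (by decide +kernel) orbP0 cardP0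
  have h1 : 9 * Nat.card (lev 9 275 []) ≤ Nat.card (lev 9 275 [S1, S2]) :=
    step (w := 9) [S1, S2] [] 2 3 mk1 9 (InK.lev in1) (by simp) (by decide +kernel) orbP1 cardP1
  have h2 : 0 < Nat.card (lev 9 275 []) := Nat.card_pos
  have := card_P_le
  omega

/-! ### The classes -/

/-- `x` commutes with an involution of `K0`. -/
def Good (x : Equiv.Perm (Fin 275)) : Prop := ∃ t ∈ K0, orderOf t = 2 ∧ t * x = x * t

theorem Good.conj {x y : Equiv.Perm (Fin 275)} (h : Good x) {g : Equiv.Perm (Fin 275)} (hg : g ∈ K0)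
    (hy : y * g = g * x) : Good y := by
  obtain ⟨t, ht, h2, hc⟩ := h
  refine ⟨g * t * g⁻¹, K0.mul_mem (K0.mul_mem hg ht) (K0.inv_mem hg), ?_, ?_⟩
  · rw [← h2]
    exact orderOf_injective (MulAut.conj g).toMonoidHom (MulAut.conj g).injective t
  · have h1 : y = g * x * g⁻¹ := by rw [← hy, mul_inv_cancel_right]
    rw [h1]
    calc g * t * g⁻¹ * (g * x * g⁻¹) = g * (t * x) * g⁻¹ := by group
      _ = g * (x * t) * g⁻¹ := by rw [hc]
      _ = g * x * g⁻¹ * (g * t * g⁻¹) := by group

def classOK (r : List ℕ) (t : List ℕ) : Bool :=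
  r.all (fun s => Nat.blt s 6) &&
    (allBelow (fun x => Nat.beq (evalWord 9 tabs t (evalWord 9 pt r x)) (evalWord 9 pt r (evalWord 9 tabs t x))) 275 &&
      (allBelow (fun x => Nat.beq (evalWord 9 tabs t (evalWord 9 tabs t x)) x) 275 &&
        !(allBelow (fun x => Nat.beq (evalWord 9 tabs t x) x) 275)))

theorem classes_all : classes.all (fun c => classOK c.1 (c.2.map (fun k => (k : ℕ)))) = true := by
  decide +kernel

theorem word_mem_K0 (w : List (Fin 7)) : (w.map σ).prod ∈ K0 := by
  apply Subgroup.list_prod_mem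
  intro y hy
  obtain ⟨s, hs, rfl⟩ := List.mem_map.1 hy
  exact Subgroup.subset_closure ⟨s, rfl⟩

theorem good_class {c : List ℕ × List (Fin 7)} (hc : c ∈ classes) : Good (c.1.map π).prod := by
  have h := List.all_eq_true.1 classes_all c hc
  rw [classOK, Bool.and_eq_true, Bool.and_eq_true, Bool.and_eq_true, List.all_eq_true] at h
  obtain ⟨h0, h1, h2, h3⟩ := h
  have h0' : ∀ s ∈ c.1, s < 6 := fun s hs => by
    have := h0 s hs
    rwa [Nat.blt_eq] at this
  refine ⟨(c.2.map σ).prod, word_mem_K0 _, ?_, ?_⟩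
  · rw [orderOf_eq_prime_iff]
    constructor
    · rw [pow_two]
      refine Equiv.ext fun x => Fin.ext ?_
      rw [Equiv.Perm.mul_apply, evalWord_σ, evalWord_σ]
      exact Nat.eq_of_beq_eq_true (allBelow_spec _ _ h2 x x.2)
    · intro h4
      rw [Bool.not_eq_true', ← Bool.not_eq_true] at h3
      apply h3
      have h5 : ∀ x : Fin 275, evalWord 9 tabs (c.2.map (fun k => (k : ℕ))) x = x := by
        intro x
        rw [← evalWord_σ, h4]
        rfl
      have h6 : ∀ n ≤ 275, allBelow (fun x => Nat.beq (evalWord 9 tabs (c.2.map (fun k => (k : ℕ))) x) x) n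
          = true := by
        intro n
        induction n with
        | zero => intro _; rfl
        | succ n ih =>
          intro hn
          rw [allBelow, Bool.and_eq_true]
          exact ⟨by rw [Nat.beq_eq]; exact h5 ⟨n, hn⟩, ih (by omega)⟩
      exact h6 275 le_rfl
  · refine Equiv.ext fun x => Fin.ext ?_
    rw [Equiv.Perm.mul_apply, Equiv.Perm.mul_apply, evalWord_σ, evalπ _ h0', evalπ _ h0', evalWord_σ]
    exact Nat.eq_of_beq_eq_true (allBelow_spec _ _ h1 x x.2)

/-- `s` copies of a word. -/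
def rep : ℕ → List ℕ → List ℕ
  | 0, _ => []
  | s + 1, r => r ++ rep s r

theorem rep_prod (s : ℕ) (r : List ℕ) : ((rep s r).map π).prod = (r.map π).prod ^ s := by
  induction s with
  | zero => simp [rep]
  | succ s ih => rw [rep, List.map_append, List.prod_append, ih, pow_succ']

theorem rep_lt (s : ℕ) (r : List ℕ) (hr : ∀ x ∈ r, x < 6) : ∀ x ∈ rep s r, x < 6 := by
  induction s with
  | zero => intro x hx; exact absurd hx (List.not_mem_nil)
  | succ s ih =>
    intro x hx
    rw [rep, List.mem_append] at hx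
    exact hx.elim (hr x) (ih x)

def certOK (N : ℕ) : Bool :=
  Nat.beq N 0 || (!(fixB (wn 6 0 N ++ (wn 6 0 N ++ wn 6 0 N))) ||
    (Nat.blt ((look 20 cert N >>> 2) % 32) classes.length &&
      (Nat.beq (evalWord 9 pt (wn 6 0 N ++ wn 6 0 (look 20 cert N >>> 7)) 1)
          (evalWord 9 pt (wn 6 0 (look 20 cert N >>> 7) ++
            rep (look 20 cert N % 4) (classes.getD ((look 20 cert N >>> 2) % 32) ([], [])).1) 1) &&
        Nat.beq (evalWord 9 pt (wn 6 0 N ++ wn 6 0 (look 20 cert N >>> 7)) 2)
          (evalWord 9 pt (wn 6 0 (look 20 cert N >>> 7) ++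
            rep (look 20 cert N % 4) (classes.getD ((look 20 cert N >>> 2) % 32) ([], [])).1) 2))))

theorem cert_all : allBelow certOK 729 = true := by decide +kernel

theorem classes_lt {c : List ℕ × List (Fin 7)} (hc : c ∈ classes) : ∀ s ∈ c.1, s < 6 := by
  have h := List.all_eq_true.1 classes_all c hc
  rw [classOK, Bool.and_eq_true, List.all_eq_true] at h
  intro s hs
  have := h.1 s hs
  rwa [Nat.blt_eq] at this

theorem P_le_K0 : P ≤ K0 := by
  rw [P, Subgroup.closure_le]
  rintro x ⟨s, -, -, rfl⟩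
  exact word_mem_K0 _

theorem nf_zero : nf 0 = 1 := rfl

theorem good_of_nf {N : ℕ} (hN : N < 729) (h1 : nf N ≠ 1) (h3 : nf N ^ 3 = 1) : Good (nf N) := by
  have h := allBelow_spec _ _ cert_all N hN
  rw [certOK, Bool.or_eq_true, Bool.or_eq_true, Bool.and_eq_true, Bool.and_eq_true] at h
  rcases h with h | h | ⟨h, h'⟩
  · exact absurd (by rw [Nat.eq_of_beq_eq_true h]; exact nf_zero) h1
  · exfalso
    rw [Bool.not_eq_true', ← Bool.not_eq_true] at h
    apply h
    have h4 : ∀ x : Fin 275, evalWord 9 pt (wn 6 0 N ++ (wn 6 0 N ++ wn 6 0 N)) x = x := by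
      intro x
      rw [← evalπ _ (by
        intro s hs
        simp only [List.mem_append] at hs
        rcases hs with hs | hs | hs <;> exact wn6_lt N s hs), List.map_append, List.map_append, List.prod_append,
        List.prod_append]
      change (((nf N * (nf N * nf N)) x : Fin 275) : ℕ) = x
      have h5 : nf N * (nf N * nf N) = nf N ^ 3 := by rw [pow_succ', pow_two]
      rw [h5, h3]
      rfl
    rw [fixB, Bool.and_eq_true, Nat.beq_eq, Nat.beq_eq]
    exact ⟨h4 1, h4 2⟩
  · rw [Nat.blt_eq] at h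
    obtain ⟨ha, hb⟩ := h'
    generalize (look 20 cert N >>> 2) % 32 = k at h ha hb
    generalize look 20 cert N >>> 7 = g at ha hb
    generalize look 20 cert N % 4 = s at ha hb
    have hmem : classes.getD k ([], []) ∈ classes := by
      rw [List.getD_eq_getElem _ _ h]
      exact List.getElem_mem h
    generalize classes.getD k ([], []) = c at ha hb hmem
    have hgood := good_class hmem
    have hlt := classes_lt hmem
    have hgs : Good ((c.1.map π).prod ^ s) := by
      obtain ⟨t, ht, h2, hc⟩ := hgood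
      exact ⟨t, ht, h2, (show Commute t _ from hc).pow_right s⟩
    have hl : ∀ x ∈ wn 6 0 N ++ wn 6 0 g, x < 6 := by
      intro x hx
      rw [List.mem_append] at hx
      exact hx.elim (wn6_lt N x) (wn6_lt g x)
    have hr : ∀ x ∈ wn 6 0 g ++ rep s c.1, x < 6 := by
      intro x hx
      rw [List.mem_append] at hx
      exact hx.elim (wn6_lt g x) (rep_lt s _ hlt x)
    have heq : nf N * nf g = nf g * (c.1.map π).prod ^ s := by
      have e1 : ((wn 6 0 N ++ wn 6 0 g).map π).prod = nf N * nf g := by
        rw [List.map_append, List.prod_append]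
        rfl
      have e2 : ((wn 6 0 g ++ rep s c.1).map π).prod = nf g * (c.1.map π).prod ^ s := by
        rw [List.map_append, List.prod_append, rep_prod]
        rfl
      rw [← e1, ← e2]
      refine eq_of_base (word_mem _ hl) (word_mem _ hr) (Fin.ext ?_) (Fin.ext ?_)
      · rw [evalπ _ hl, evalπ _ hr]
        exact Nat.eq_of_beq_eq_true ha
      · rw [evalπ _ hl, evalπ _ hr]
        exact Nat.eq_of_beq_eq_true hb
    exact hgs.conj (P_le_K0 (nf_mem g)) heq

theorem good_of_mem {x : Equiv.Perm (Fin 275)} (hx : x ∈ P) (h3 : orderOf x = 3) : Good x := by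
  obtain ⟨N, hN, rfl⟩ := exists_nf6 hx
  refine good_of_nf hN ?_ ?_
  · intro h
    rw [h, orderOf_one] at h3
    exact absurd h3 (by norm_num)
  · rw [← h3]
    exact pow_orderOf_eq_one _

/-! ### The main theorem -/

theorem map_top : (⊤ : Subgroup G1).map ψ = K0 := by
  rw [← closure_m, MonoidHom.map_closure, ← Set.range_comp, K0]
  congr 2
  funext k
  exact ψ_m k

theorem mem_K0_iff {x : Equiv.Perm (Fin 275)} : x ∈ K0 ↔ ∃ g : G1, ψ g = x := by
  rw [← map_top, Subgroup.mem_map]
  exact ⟨fun ⟨g, _, h⟩ => ⟨g, h⟩, fun ⟨g, h⟩ => ⟨g, trivial, h⟩⟩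

/-- Every element of order 3 of the McLaughlin group commutes with an involution. -/
theorem exists_commuting_involution (x : G1) (hx : orderOf x = 3) : ∃ s : G1, orderOf s = 2 ∧ s * x = x * s := by
  classical
  have hcard : Nat.card (P.comap ψ) = 3 ^ (Nat.card G1).factorization 3 := by
    have h1 : Nat.card (P.comap ψ) = Nat.card P := by
      have h2 : (P.comap ψ).map ψ = P := by
        rw [Subgroup.map_comap_eq_self]
        intro y hy
        obtain ⟨g, hg⟩ := mem_K0_iff.1 (P_le_K0 hy)
        exact ⟨g, hg⟩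
      rw [← h2, Subgroup.comap_map_eq_self_of_injective ψ_injective]
      exact Nat.card_congr ((P.comap ψ).equivMapOfInjective ψ ψ_injective).toEquiv
    rw [h1, card_P, card_G1]
    have h3 : (898128000 : ℕ) = 3 ^ 6 * 1232000 := by norm_num
    have h4 : (898128000 : ℕ).factorization 3 = 6 := by
      rw [h3, Nat.factorization_mul (by norm_num) (by norm_num), Finsupp.add_apply,
        Nat.factorization_pow, Finsupp.smul_apply, Nat.Prime.factorization_self Nat.prime_three,
        Nat.factorization_eq_zero_of_not_dvd (by norm_num)]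
      rfl
    rw [h4]
    norm_num
  have : Fact (Nat.Prime 3) := ⟨Nat.prime_three⟩
  let T : Sylow 3 G1 := Sylow.ofCard (P.comap ψ) hcard
  have hp : IsPGroup 3 (Subgroup.zpowers x) := by
    rw [IsPGroup.iff_card]
    exact ⟨1, by rw [Nat.card_zpowers, hx, pow_one]⟩
  obtain ⟨Q, hQ⟩ := hp.exists_le_sylow
  obtain ⟨g, hg⟩ := MulAction.exists_smul_eq G1 Q T
  have h1 : g * x * g⁻¹ ∈ (T : Subgroup G1) := by
    rw [← hg]
    have h2 : x ∈ (Q : Subgroup G1) := hQ (Subgroup.mem_zpowers x)
    change g * x * g⁻¹ ∈ ((g • Q : Sylow 3 G1) : Subgroup G1)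
    rw [Sylow.coe_subgroup_smul]
    exact Subgroup.smul_mem_pointwise_smul x (MulAut.conj g) _ h2
  have h2 : ψ (g * x * g⁻¹) ∈ P := h1
  have h3 : orderOf (ψ (g * x * g⁻¹)) = 3 := by
    rw [orderOf_injective ψ ψ_injective, ← hx]
    exact orderOf_injective (MulAut.conj g).toMonoidHom (MulAut.conj g).injective x
  obtain ⟨t, ht, ht2, htc⟩ := good_of_mem h2 h3
  obtain ⟨s, rfl⟩ := mem_K0_iff.1 ht
  rw [orderOf_injective ψ ψ_injective] at ht2
  rw [← map_mul, ← map_mul] at htc
  have h4 := ψ_injective htc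
  refine ⟨g⁻¹ * s * g, ?_, ?_⟩
  · rw [← ht2]
    have := orderOf_injective (MulAut.conj g⁻¹).toMonoidHom (MulAut.conj g⁻¹).injective s
    simpa using this
  · calc g⁻¹ * s * g * x = g⁻¹ * (s * (g * x * g⁻¹)) * g := by group
      _ = g⁻¹ * (g * x * g⁻¹ * s) * g := by rw [h4]
      _ = x * (g⁻¹ * s * g) := by group

/-- The same for any group isomorphic to the McLaughlin group. -/
theorem exists_commuting_involution_of_iso {H : Type*} [Group H] (h : Spor.IsoMcL H) (k : H)
    (hk : orderOf k = 3) : ∃ s : H, orderOf s = 2 ∧ s * k = k * s := by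
  obtain ⟨e⟩ := h
  obtain ⟨e'⟩ := isoMcL_G1
  let f : H ≃* G1 := e.trans e'.symm
  obtain ⟨s, hs, hc⟩ := exists_commuting_involution (f k) (by
    rw [← hk]
    exact orderOf_injective f.toMonoidHom f.injective k)
  refine ⟨f.symm s, ?_, ?_⟩
  · rw [← hs]
    exact orderOf_injective f.symm.toMonoidHom f.symm.injective s
  · apply f.injective
    rw [map_mul, map_mul, MulEquiv.apply_symm_apply]
    exact hc

theorem card_of_iso {H : Type*} [Group H] (h : Spor.IsoMcL H) : Nat.card H = 898128000 := by
  obtain ⟨e⟩ := h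
  obtain ⟨e'⟩ := isoMcL_G1
  rw [Nat.card_congr (e.trans e'.symm).toEquiv, card_G1]

end Cfsg.Agent.McLType.ThreeElts
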