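import Cfsg.Agent.SporadicRecognition.AltCover
import Cfsg.Agent.SporRec.TwoAn
set_option linter.all false

-- part: SporadicRecognition/AltCoverHom
section
/-!
# Homomorphisms out of the non-split double cover of an alternating group

`exists_hom`: elements `Y 0, …, Y (m-1)` of a group `H` with `Y i ^ 3 = 1` and
`(Y i * Y j) ^ 2 = ζ` for `i ≠ j`, `ζ ^ 2 = 1`, `ζ` commuting with the `Y i`, are the images of the
lifts of order three of the Carmichael generators of `A_(m+2)` under a homomorphism from the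
double cover, which maps `z` to `ζ`.
-/

set_option autoImplicit false

namespace Cfsg.Agent.SporadicRecognition.AltCoverHom

open Cfsg.Agent.SporadicRecognition.AltCover
open Subgroup
open Cfsg.Agent.Lib.AltCarmichael

variable {m : ℕ} {C : Type*} [Group C] {π : C →* alternatingGroup (Fin (m + 2))} {z : C}

/-- Homomorphisms out of the double cover, `ζ` central. -/
theorem exists_hom_central (h : IsCover π z) (hm : 3 ≤ m) {H : Type*} [Group H]
    (Y : ℕ → H) {ζ : H} (hζ : ζ * ζ = 1) (hζc : ∀ x, x * ζ = ζ * x) (hY3 : ∀ i < m, Y i ^ 3 = 1)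
    (hY : ∀ i < m, ∀ j < m, i ≠ j → (Y i * Y j) ^ 2 = ζ) :
    ∃ Φ : C →* H, (∀ i (hi : i < m) (g : C), g ^ 3 = 1 → π g = cy m i hi → Φ g = Y i) ∧
      Φ z = ζ := by
  classical
  set N : Subgroup (C × H) := zpowers (z, ζ) with hN
  have hNz : (z, ζ) * (z, ζ) = (1 : C × H) := Prod.ext h.z_mul hζ
  have hmemN : ∀ p : C × H, p ∈ N ↔ p = 1 ∨ p = (z, ζ) := by
    intro p
    constructor
    · intro hp
      obtain ⟨k, hk⟩ := mem_zpowers_iff.1 hp
      rcases Int.even_or_odd' k with ⟨l, hl | hl⟩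
      · left
        rw [← hk, hl, zpow_mul, zpow_two, hNz, one_zpow]
      · right
        rw [← hk, hl, zpow_add, zpow_mul, zpow_two, hNz, one_zpow, one_mul, zpow_one]
    · rintro (rfl | rfl)
      · exact one_mem _
      · exact mem_zpowers _
  have hNn : N.Normal := by
    refine ⟨fun p hp g => ?_⟩
    rcases (hmemN p).1 hp with rfl | rfl
    · rw [mul_one, mul_inv_cancel]; exact one_mem _
    · have : g * (z, ζ) * g⁻¹ = (z, ζ) := by
        refine Prod.ext ?_ ?_
        · change g.1 * z * g.1⁻¹ = z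
          rw [h.z_comm, mul_inv_cancel_right]
        · change g.2 * ζ * g.2⁻¹ = ζ
          rw [hζc, mul_inv_cancel_right]
      rw [this]; exact mem_zpowers _
  choose X hX3 hXπ using fun (k : Fin m) => h.exists_cube (cy_cube k.2)
  let q : C × H →* (C × H) ⧸ N := QuotientGroup.mk' N
  have hq : ∀ p, q p = 1 ↔ p = 1 ∨ p = (z, ζ) := by
    intro p
    rw [← hmemN]
    exact QuotientGroup.eq_one_iff p
  have hrel : Rel m (fun k => if hk : k < m then q (X ⟨k, hk⟩, Y k) else 1) := by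
    constructor
    · intro k hk
      simp only [dif_pos hk]
      rw [← map_pow, hq]
      left
      exact Prod.ext (hX3 _) (hY3 _ hk)
    · intro k hk l hl hkl
      simp only [dif_pos hk, dif_pos hl]
      rw [← map_mul, ← map_pow, hq]
      right
      exact Prod.ext (h.sq_eq hm hk hl hkl (hX3 _) (hXπ _) (hX3 _) (hXπ _)) (hY k hk l hl hkl)
  obtain ⟨s, hs⟩ := Cfsg.Agent.Lib.AltCarmichael.exists_hom (by omega) hrel
  have hs' : ∀ k (hk : k < m), s (cy m k hk) = q (X ⟨k, hk⟩, Y k) := by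
    intro k hk
    have := hs k hk
    simp only [dif_pos hk] at this
    exact this
  have hN1 : N ≤ (π.comp (MonoidHom.fst C H)).ker := by
    intro p hp
    rw [MonoidHom.mem_ker]
    rcases (hmemN p).1 hp with rfl | rfl
    · exact map_one _
    · exact h.map_z
  have key1 : ∀ p g, q p = s g → π p.1 = g := by
    have hc : (QuotientGroup.lift N (π.comp (MonoidHom.fst C H)) hN1).comp s =
        MonoidHom.id _ := by
      refine hom_ext (by omega) fun k hk => ?_
      rw [MonoidHom.comp_apply, hs']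
      exact hXπ ⟨k, hk⟩
    intro p g hp
    have h1 := DFunLike.congr_fun hc g
    rw [MonoidHom.comp_apply, ← hp] at h1
    exact h1
  -- the graph
  let Γ : Subgroup (C × H) := s.range.comap q
  have hΓz : (z, ζ) ∈ Γ := ⟨1, by rw [map_one]; exact ((hq _).2 (Or.inr rfl)).symm⟩
  let f₁ : Γ →* C := (MonoidHom.fst C H).comp Γ.subtype
  let f₂ : Γ →* H := (MonoidHom.snd C H).comp Γ.subtype
  have hΓ : ∀ g, ∃ p ∈ Γ, π p.1 = g := by
    intro g
    obtain ⟨p, hp⟩ := QuotientGroup.mk'_surjective N (s g)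
    exact ⟨p, ⟨g, hp.symm⟩, key1 p g hp⟩
  have hf₁ : Function.Bijective f₁ := by
    constructor
    · rw [injective_iff_map_eq_one]
      rintro ⟨⟨a, b⟩, g, hg⟩ hab
      have ha : a = 1 := hab
      subst ha
      have h1 := key1 (1, b) g hg.symm
      rw [map_one] at h1
      rw [← h1, map_one] at hg
      rcases (hq (1, b)).1 hg.symm with h2 | h2
      · exact Subtype.ext h2
      · exact absurd (congrArg Prod.fst h2).symm h.z_ne
    · intro x
      obtain ⟨p, hp, hp1⟩ := hΓ (π x)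
      rcases h.eq_or_of_map_eq hp1.symm with h1 | h1
      · exact ⟨⟨p, hp⟩, h1.symm⟩
      · exact ⟨⟨p * (z, ζ), mul_mem hp hΓz⟩, h1.symm⟩
  let e₁ : Γ ≃* C := MulEquiv.ofBijective f₁ hf₁
  have he : ∀ p : Γ, (f₂.comp e₁.symm.toMonoidHom) p.1.1 = p.1.2 := by
    intro p
    have h1 : e₁.symm (p.1.1) = p := e₁.symm_apply_eq.2 rfl
    change f₂ (e₁.symm (p.1.1)) = p.1.2
    rw [h1]
    rfl
  refine ⟨f₂.comp e₁.symm.toMonoidHom, fun i hi g hg hgi => ?_, he ⟨(z, ζ), hΓz⟩⟩
  have hgX : g = X ⟨i, hi⟩ := h.eq_of_cube hg (hX3 _) (by rw [hgi, hXπ])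
  have hmem : (g, Y i) ∈ Γ := ⟨cy m i hi, by rw [hs' i hi, hgX]⟩
  exact he ⟨(g, Y i), hmem⟩

/-- Homomorphisms out of the double cover. -/
theorem exists_hom (h : IsCover π z) (hm : 3 ≤ m) {H : Type*} [Group H]
    (Y : ℕ → H) {ζ : H} (hζ : ζ * ζ = 1) (hY3 : ∀ i < m, Y i ^ 3 = 1)
    (hY : ∀ i < m, ∀ j < m, i ≠ j → (Y i * Y j) ^ 2 = ζ) :
    ∃ Φ : C →* H, (∀ i (hi : i < m) (g : C), g ^ 3 = 1 → π g = cy m i hi → Φ g = Y i) ∧
      Φ z = ζ := by
  have hζY : ∀ i < m, Y i * ζ = ζ * Y i := by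
    intro i hi
    obtain ⟨j, hj, hij⟩ : ∃ j < m, i ≠ j := by
      by_cases h0 : i = 0
      · exact ⟨1, by omega, by omega⟩
      · exact ⟨0, by omega, h0⟩
    calc Y i * ζ = Y i * (Y j * Y i) ^ 2 := by rw [hY j hj i hi hij.symm]
      _ = (Y i * Y j) ^ 2 * Y i := by simp only [pow_two, mul_assoc]
      _ = ζ * Y i := by rw [hY i hi j hj hij]
  let K : Subgroup H := centralizer {ζ}
  have hK : ∀ x : H, x ∈ K ↔ x * ζ = ζ * x := fun x => by
    rw [mem_centralizer_singleton_iff]
  let Y' : ℕ → K := fun i => if hi : i < m then ⟨Y i, (hK _).2 (hζY i hi)⟩ else 1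
  let ζ' : K := ⟨ζ, (hK _).2 rfl⟩
  have hY' : ∀ i < m, ((Y' i : K) : H) = Y i := fun i hi => by
    change ((if hi : i < m then (⟨Y i, (hK _).2 (hζY i hi)⟩ : K) else 1 : K) : H) = Y i
    rw [dif_pos hi]
  obtain ⟨Φ, h1, h2⟩ := exists_hom_central h hm Y' (ζ := ζ') (Subtype.ext hζ)
    (fun x => Subtype.ext ((hK x).1 x.2))
    (fun i hi => Subtype.ext (by
      rw [coe_pow, hY' i hi, hY3 i hi]; rfl))
    (fun i hi j hj hij => Subtype.ext (by
      rw [coe_pow, coe_mul, hY' i hi, hY' j hj, hY i hi j hj hij]))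
  refine ⟨K.subtype.comp Φ, fun i hi g hg hgi => ?_, ?_⟩
  · rw [MonoidHom.comp_apply, h1 i hi g hg hgi]
    exact hY' i hi
  · rw [MonoidHom.comp_apply, h2]; rfl

end Cfsg.Agent.SporadicRecognition.AltCoverHom
end

-- part: McLType/Model8
section
/-!
# A computable model of the double cover of `A_8`

`exists_letters`: in a non-split double cover `π : C → A_8` there are elements `L 0, …, L 12`
(`a b c x y w z` and the six lifts of order three of the Carmichael generators) such that every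
equality of words in them may be checked by the function `chk`, which works with the permutations
of `240` points (`z` acts without fixed points) and of the eight letters.
-/

set_option autoImplicit false
set_option maxRecDepth 100000

namespace Cfsg.Agent.McLType.Model8

open Equiv
open Cfsg.Agent.SporadicRecognition.AltCover
open Cfsg.Agent.Lib.AltCarmichael

/-- entry of a table -/
def ent (T i : ℕ) : ℕ := Nat.mod (Nat.shiftRight T (Nat.mul 8 i)) 256

/-- image of a point under a product of tables -/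
def run : List ℕ → ℕ → ℕ
  | [], i => i
  | T :: ws, i => ent T (run ws i)

theorem run_append (ws ws' : List ℕ) (i : ℕ) : run (ws ++ ws') i = run ws (run ws' i) := by
  induction ws with
  | nil => rfl
  | cons T ws ih => rw [List.cons_append, run, ih, run]

/-- all numbers below a bound pass a test -/
def allb : ℕ → (ℕ → Bool) → Bool
  | 0, _ => true
  | n + 1, f => (f n).and (allb n f)

theorem allb_iff {n : ℕ} {f : ℕ → Bool} : allb n f = true ↔ ∀ i < n, f i = true := by
  induction n with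
  | zero => simp [allb]
  | succ n ih =>
    rw [allb, Bool.and_eq_true, ih]
    constructor
    · rintro ⟨h1, h2⟩ i hi
      rcases Nat.lt_succ_iff_lt_or_eq.1 hi with h | h
      · exact h2 i h
      · rw [h]; exact h1
    · intro h
      exact ⟨h n (Nat.lt_succ_self n), fun i hi => h i (Nat.lt_succ_of_lt hi)⟩

/-- the tables: `0-5` the Carmichael generators, `6-11` their inverses, `12-18` the elements
`a b c x y w z`; the entries `240-247` describe the action on the eight letters -/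
def tb : ℕ → ℕ
  | 0 => 0xf0f7f5f4f3f2f1f69697b9b84e4fdddc6f6e6362eeefb0b14849adac707131307776b6b73435e4e5b3b27978bfbe18196564dbdae6e75f5e3f3e8b8a1415a2a34243444586875455b4b5e9e82223bcbd24251213eced16178d8c696850510706e3e22d2caaabd2d30b0a5657a8a9d6d7cecf0d0ca6a7090810114a4b4c4d5c5d888905049b9ac4c5c2c33b3aebea292894953938d0d17b7a3736cccdd8d97d7c9e9fe1e0dfde72736a6b606158595253c9c8afaed5d46c6dcbcaa1a04041c7c6c1c09190bbba5a5b81806667a5a49d9c9998838293928f8e85847f7e757446473c3d32332a2b1c1d01001f1e21202f2e27261b1a0f0e0302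
  | 1 => 0xf1f7f5f4f3f2f6f0e4e5acad8c8da2a38283bfbe9594cfce7f7e3435edec77762e2fe1e0b9b86766d5d424252d2ca6a79293d2d3c8c98e8feeef20210b0ac4c58687090854554342d6d7dadb3839c1c0c3c20d0c9091aaab0706989917164e4fcacb62635051e9e8a8a9686915145a5b4a4b4c4d5c5d88897475b0b1131219184544dedf2223dcdd797885842627ebea3f3e9b9ae2e31e1f8b8ae7e68180b3b26a6b58590302c7c69d9c6c6db7b61a1bcdccd9d87c7da5a4d1d073727a7ba1a0bbba7170bdbcb5b4afae969761609f9e575646473c3d32332a2b01000e0f6f6e65645f5e3a3b5352494841403736313029281d1c11100504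
  | 2 => 0xf2f7f5f4f3f6f1f09392d0d1dedfc6c75f5ea3a2a7a67f7e6c6d2021171656570d0c848522236e6f8d8cbcbdcccd0b0a8e8f14156362e4e5a9a8cbca9594e6e71b1a3a3b7a7b9d9c4e4f1918e2e35051aaab9899c0c1babb5b5a2f2e78797c7d3435a0a19091eeefe9e84c4d5c5d0504d9d87475d2d328296968a5a430313f3eb7b6d5d48b8a2c2dedecebea4445e1e0dbdaadac37369e9fb8b972736061030286870908b4b5bebf4041cecf26276a6bdddc4948d7d6afae9a9bc5c45352c9c8c3c224257170b3b2b1b0323301001c1d0e0f979683824647898881807776656467663c3d595855544b4a4342393811102b2a1f1e13120706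
  | 3 => 0xf3f7f5f4f6f2f1f0b0b1d5d49a9b4f4ebdbceaeb7071dadbc1c063625657a4a51819c6c72829e9e826270b0ab9b85f5eeced96971f1e76776465b4b580813938a2a3e6e723228c8d8485505107060d0c10117e7f3f3ed2d3c4c59091e5e486879f9eb3b2cecf4a4b7475efeec3c2363766676f6e30317a7bd9d81716bbba6c6ddedf4041dcdd5455aeaf1a1badac7d7c99984342727303025253050424253435e1e0e3e2c8c96a6bd1d02e2f9d9cd6d78988a9a8bebf8f8eb6b75958cdcccbca46473c3d01001c1d0e0fabaaa7a6a1a09392121395945d5c8b8a838279784948696861605b5a2a2b4d4c45443b3a33322d2c212015140908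
  | 4 => 0xf4f7f5f6f3f2f1f0c2c37677a1a09495e3e2cfce5b5aa7a6c7c67978cbca97962425efeee4e52f2ed2d367664544bfbe8a8bc8c9d4d51f1ec4c512136d6ce1e06f6e1819d1d0edec3e3f7c7d69683839b9b8656482838e8f7e7f1b1a40413a3b43425c5d74758081eaebc1c0dedfa3a209083637888963625f5e2c2d9d9c4a4bb0b12829babbb4b53130727303026061585952539091aaab9e9fe9e8e7e6cccd0d0cd6d7a4a5070620210504dcddbcbdafaedbdad9d826274647010032332a2b1c1d87869998b7b6b3b2adaca9a893929b9a55544d4c0e0f8d8c85847b7a71706b6a5150494857564f4e11103d3c35341514232217160b0a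
  | 5 => 0xf5f7f6f4f3f2f1f0dcdd6968dadbbdbc7a7baeaf8b8a6e6fe7e6d6d75e5f2928efee23220b0ababb1011a4a58e8f84851b1a09085455808126277776b4b56667cdccd1d0171648495657e2e3121397966564b6b7d9d87e7f44455b5ac9c8cbca8889eced4243070698991514acada8a940419a9b74754e4f3a3bc7c6dedfd5d4e9e8383903026a6b5253b3b22e2f9495303158598d8cb1b0ebeaaaab2d2ca6a7e5e44c4de1e01e1fc1c0c3c205046061010032332a2b1c1dd3d2cfcea1a08382c5c4bfbe9f9eb9b871709d9c9392a3a234354b4a797891900e0f87867d7c73726d6c63625d5c3c3d515047463f3e37362120252419180d0c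
  | 6 => 0xf6f0f5f4f3f2f1f7e2e3a2a36b6aadacc2c3d0d1979655545352e9e8c5c45a5b888943429091626386875c5d3f3e4746393870716e6f3736cbcaa8a93332edecd4d5aeafcfcee0e14544dddc92938a8b82832b2ab8b93d3c5657292873722726eeef66672322353421209f9ebdbc7677b2b31f1e25242f2e1d1c59586160cdccd7d61b1a5051dadbe7e640414e4f9d9c2c2dc7c6e5e44c4dc1c0787930314a4b8c8db0b148499a9beaeb7a7b7c7ddedf1819b4b5b6b73a3bbfbe16176d6c65645f5ed2d31415d9d809089594121369680706a6a7aaab0b0a0d0c10110504c8c9a0a1babba4a57e7f030285848f8e81809998757401000f0e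
  | 7 => 0xf6f1f5f4f3f2f7f0bebfdbda696891905d5ceeef6263d5d474757071acad4544aeafcfcec4c53f3ee1e047469697c2c35150b8b9a7a6a9a8e5e433323736d3d24b4a313059587c7d2f2eeceda0a18e8fc8c94140e8e9393829284f4e65649c9d2c2de3e2c6c7a2a3c0c1eaeb5f5e8081b6b76d6ce6e75b5adfde42433a3b6f6ed9d87e7f3d3c353419184c4d56578c8dd1d0171694952b2a15148283888954552726b2b3111092939899848586870f0e24257776b1b00d0c676622231213aaab0b0adcdd20210908d6d7cbca1e1f07066a6bcccd7273bcbd60610504484979789b9a8b8a7b7a03021a1ba5a4bbbab5b49f9e010053521d1c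
  | 8 => 0xf6f2f5f4f3f7f1f090916f6e6d6c8f8eb8b9c0c1aaab6968eaeb474667668786434275748283eced4c4dcacbbdbc3938e8e93d3c3736a2a35051cccda0a15e5f7776525331302f2e41406564a6a7bfbee3e27d7ce5e494956061b1b03e3fa4a52524bbbaefee9293c6c7cfce73721f1e5657d4d523221d1ce1e09899b2b39a9b1b1a84855c5d3332d0d1dedf48497f7e17161918c3c25a5be7e68a8b9f9e1312d8d911103b3aa8a9aeaf8c8d0f0e454420216a6b0d0c4e4f79781415b4b50b0a636296972c2d7a7b9d9c7071070680814a4b3435d2d3dcdd05042829b7b6adacdbdac4c5030209082627d7d6c9c855540100898859582b2a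
  | 9 => 0xf6f3f5f4f7f2f1f08d8cc6c7e4e5d1d0b4b59b9a5554575676777273e0e17f7e4849edeca0a14f4e92933b3a39385253d4d59e9f8b8adfde4243e7e67b7acbca3e3fbcbd9594eeef6e6f6b6a2d2c45442b2ad8d9b6b7292897964b4aeaeb6766c4c5232227269c9d4140b0b11f1e47469899aeaf1d1cbabba4a5696880811b1ac0c18e8f6263e2e385847879505117168687bebfdddc1514c9c8212013123d3cdadb70715e5facade9e80f0e9091191836370d0c65647475a3a234350b0ab9b888895859090882834c4d07061011d2d3cecf5a5bb3b20504c3c230316c6dd6d77d7c03022425a6a72e2fa9a8cdcc0100abaa5d5c61603332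
  | 10 => 0xf6f4f5f7f3f2f1f0d5d4b1b08e8f5d5c5b5ad2d3e7e6b9b88a8b4a4b454443425455c2c3cecfb3b2e5e45859dbdac4c5dfdebebfeeef8d8cc9c848497273a7a6313070712f2e767747462d2c60612b2ae1e052538988ebea5e5f7b7a27263332d9d8e8e929286263a0a11f1ec6c7828335341d1ca2a390919e9facad1b1adddceced92936c6d1918b7b6bbba1716abaacdcca5a4818068697f7e9495e3e2666711102524646515140f0e2322787913123e3fcbca97969a9baeaf0b0a9899a8a9848509083a3b6f6ed1d07c7d383974754041d6d705044e4fc1c036379d9cb4b503020706bcbd0d0c202157560100878651504d4c6b6a3d3c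
  | 11 => 0xf6f5f7f4f3f2f1f0d7d694955f5e7776dfde5756acad53527a7beeefeaeba3a2dcdd79783f3eb5b43d3cb7b699989b9a7d7c37364d4c4f4e3534e9e8d0d13130a4a5babb6d6c6160e4e58a8b5c5d88895859cccd29283b3a33322d2c84858e8fa9a868692b2a2120cacb6362e3e296971d1cc8c93938c0c1a0a11b1ae6e72322bdbc828319182f2ee0e117167071edecb8b9a7a615144849dadb13129d9c6465aeafc2c36e6f0f0e808154552524b0b10d0c9e9f929386870b0a10117e7f747509082627444566676a6b5b5a4243d9d8bebf0504d5d4070650514041c7c60302b3b28d8caaabcecf1e1f0100d3d2c5c491904b4a73724746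
  | 12 => 0xf4f5f6f7f1f0f3f2cbca6061797813129d9c3e3fe2e33130dfde3a3b4d4c6b6a5f5e9f9e0d0c9796cecf6564efee36375a5b4041a1a0c1c0bebf69683839a5a4b7b6282993925d5c3c3d7b7aaaab1617a6a7b9b86c6dc3c2d5d4e7e69b9a2223d1d09495b3b21e1f242551507d7c1819262734352e2f202105048b8aadacebea7776030242432a2b5958a2a3d9d8bdbc6667cdcc6263ecedd7d6b1b0c6c76f6e5756323353528d8c1415dbda4445494847464a4b7273c4c5e4e5aeafdcddbabbc8c984855455e1e082832c2d7071b4b586878e8f9899808190911d1c1b1a8889a8a94e4fe9e800010f0ed3d20a0b080906077f7e75741011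
  | 13 => 0xf6f7f2f3f4f5f0f1eeefedece7e6e8e9ebeae2e3e4e5e0e1dedf9091b9b865649293b1b07071959454559899cbca9e9f7776c4c58d8c8b8a96978e8fbabbdbda7d7ca0a1b3b2d5d4aaaba3a2aeafa8a95657a4a5adacb4b5c8c979785a5bcccdbebfd1d0d6d7dcddbcbdc3c2c1c05051585960616a6b72735253b7b66c6d9d9cc7c648498081d2d369687a7b82836f6e6667d9d8636284855f5e4e4f9a9b8687a6a7cecf7e7f88895c5d4c4d4a4b747506073938434213122d2c08093b3a4544151435340a0b171623223f3e0c0d1918252427262f2e21201f1e02031b1a2928313037364140111004052a2b32333c3d46470e0f1c1d0001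
  | 14 => 0xf5f4f7f6f1f0f3f27f7ee8e95455eced8a8b11101a1b64652c2ddadbdcddbabb98998e8fd3d275744647313004052726c6c7c5c4454406071c1dbcbdd8d9b9b8a6a7a8a98889b0b1aeafadac7776b4b5b6b7a4a571704b4a24257d7c0908d6d70203494818199190d4d58081e6e7b2b33637848573728c8defee9d9c7a7b3233abaad1d08382a3a26e6f2a2b383969685352e0e10e0f121322235d5c5b5a59580b0aeaeb676620214e4f3a3ba1a09594cecfc3c22e2f404100013d3c4c4d6a6b868735347879cdcc4243dedf6c6d1716c9c89e9f5e5f50511e1fbebfe2e39293292815146061e5e462630c0d57569b9ac0c1cacb96973e3f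
  | 15 => 0xf3f4f1f6f7f0f5f267663b3a93924c4dd6d7e4e5e2e3e0e101006d6c2a2bd9d8e6e709084140d0d12928c0c1cacbc8c95859a4a50b0acccd97965b5ababb0d0c6a6bb4b520213c3d141585843736a9a83938c4c56061a0a19e9f72738f8e8b8abfbe9495ebea7b7a9b9a3233999851507776adac7d7c79785253838291908180878675749c9d12136968dddcb6b76f6eefee65646263a2a342434f4ebdbcc6c7444518197e7f89885d5ce8e94b4a4948171656575e5fd3d22c2db0b1edeca7a6abaa1f1e8c8d060723223e3fdadbcfce272625242f2eb2b3353402031b1a54554746aeaf707111100f0eb9b8c3c2d5d4303105041c1ddfde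
  | 16 => 0xf6f7f4f5f0f1f2f3545560617f7e12138b8a1110e3e28c8ddedf25249f9e6b6ad7d64d4c3d3c2b2acecf2120333237367b7ac4c5c2c352530908bdbc393814150e0fa9a89392b0b10c0d5a5b9495b5b462634f4e0302a0a1dbda7d7c1c1d99987071aaabb3b258593b3ae0e1e7e619182627858472736465ebea9d9cc7c6050448496c6d828396971f1e7475d9d8696807068081a6a7eced5f5e5c5dacad90915756eeefc0c13031a5a4d5d44a4b7677464744452e2f40410100d3d28f8ebbbac9c83534cbca505142432c2dd1d017168687dddc2322cdcc6f6e9a9b1b1a89882928b8b9e8e9e5e4b6b7aeaf0b0abfbe67667978a3a23f3e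
  | 17 => 0xf4f3f1f7f6f0f5f201003534ebeae9e8e7e675744948a9a866679190dbdac8c9d6d7cccdd3d204059a9bd4d51110d8d93332c5c487860809535218194b4ab9b8aaab2425b3b299987d7ca2a3b6b7e1e05657a4a5acad272665649c9dcecfb1b07f7e0f0e9293dddc292858593d3c6869c3c26061151481809796afae6c6d78790a0be5e47372717051507a7b36378889dedf9f9e1b1a84855f5e232254558c8da6a75a5bbfbe6f6e2e2f4c4dbbbae3e2070638394243404103028b8a1e1f44456a6bedecc7c617164e4f1c1d2a2b8f8ea1a0b4b55d5c20213a3b2c2d6362bcbd313083821213cbca95940c0d7677c0c14746d0d13f3eefee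
  | 18 => 0xf7f6f5f4f3f2f1f0eeefecedeaebe8e9e6e7e4e5e2e3e0e1dedfdcdddadbd8d9d6d7d4d5d2d3d0d1cecfcccdcacbc8c9c6c7c4c5c2c3c0c1bebfbcbdbabbb8b9b6b7b4b5b2b3b0b1aeafacadaaaba8a9a6a7a4a5a2a3a0a19e9f9c9d9a9b989996979495929390918e8f8c8d8a8b888986878485828380817e7f7c7d7a7b787976777475727370716e6f6c6d6a6b686966676465626360615e5f5c5d5a5b585956575455525350514e4f4c4d4a4b484946474445424340413e3f3c3d3a3b383936373435323330312e2f2c2d2a2b282926272425222320211e1f1c1d1a1b181916171415121310110e0f0c0d0a0b08090607040502030001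
  | _ => 0

/-- the tables `T`, `T'` are inverse permutations of the first `240` points -/
def chkInv (T T' : ℕ) : Bool :=
  allb 240 fun i => (Nat.blt (ent T i) 240).and ((Nat.beq (ent T' (ent T i)) i).and
    ((Nat.blt (ent T' i) 240).and (Nat.beq (ent T (ent T' i)) i)))

theorem chkInv_spec {T T' : ℕ} (h : chkInv T T' = true) (i : ℕ) (hi : i < 240) :
    ent T i < 240 ∧ ent T' (ent T i) = i ∧ ent T' i < 240 ∧ ent T (ent T' i) = i := by
  have h1 := allb_iff.1 h i hi
  simp only [Bool.and_eq_true, Nat.blt_eq, Nat.beq_eq] at h1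
  exact h1

/-- the permutation with given tables -/
def mkPerm (T T' : ℕ) (h : chkInv T T' = true) : Perm (Fin 240) where
  toFun i := ⟨ent T i, (chkInv_spec h i i.2).1⟩
  invFun i := ⟨ent T' i, (chkInv_spec h i i.2).2.2.1⟩
  left_inv i := Fin.ext (chkInv_spec h i i.2).2.1
  right_inv i := Fin.ext (chkInv_spec h i i.2).2.2.2

theorem mkPerm_apply (T T' : ℕ) (h : chkInv T T' = true) (i : Fin 240) :
    ((mkPerm T T' h i : Fin 240) : ℕ) = ent T i := rfl

theorem mkPerm_symm_apply (T T' : ℕ) (h : chkInv T T' = true) (i : Fin 240) :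
    (((mkPerm T T' h)⁻¹ i : Fin 240) : ℕ) = ent T' i := rfl

theorem chk_tb : ∀ k < 6, chkInv (tb k) (tb (k + 6)) = true := by decide +kernel

theorem chk_z : chkInv (tb 18) (tb 18) = true := by decide +kernel

/-- the images of the Carmichael generators -/
def Y (k : ℕ) : Perm (Fin 240) :=
  if h : chkInv (tb k) (tb (k + 6)) = true then mkPerm (tb k) (tb (k + 6)) h else 1

/-- the image of `z` -/
def ζ : Perm (Fin 240) := mkPerm (tb 18) (tb 18) chk_z

theorem Y_apply {k : ℕ} (hk : k < 6) (i : Fin 240) : ((Y k i : Fin 240) : ℕ) = ent (tb k) i := by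
  rw [Y, dif_pos (chk_tb k hk)]; rfl

theorem Y_inv_apply {k : ℕ} (hk : k < 6) (i : Fin 240) :
    (((Y k)⁻¹ i : Fin 240) : ℕ) = ent (tb (k + 6)) i := by
  rw [Y, dif_pos (chk_tb k hk)]; rfl

theorem ζ_apply (i : Fin 240) : ((ζ i : Fin 240) : ℕ) = ent (tb 18) i := rfl

theorem chk_cube : ∀ k < 6, (allb 240 fun i => Nat.beq (run [tb k, tb k, tb k] i) i) = true := by
  decide +kernel

theorem chk_sq : ∀ k < 6, ∀ l < 6, k ≠ l →
    (allb 240 fun i => Nat.beq (run [tb k, tb l, tb k, tb l] i) (ent (tb 18) i)) = true := by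
  decide +kernel

theorem chk_zz : (allb 240 fun i => Nat.beq (run [tb 18, tb 18] i) i) = true := by
  decide +kernel

theorem Y_cube {k : ℕ} (hk : k < 6) : Y k ^ 3 = 1 := by
  refine Equiv.ext fun i => Fin.ext ?_
  have h := allb_iff.1 (chk_cube k hk) i i.2
  rw [Nat.beq_eq] at h
  rw [show Y k ^ 3 = Y k * (Y k * Y k) from by rw [pow_succ', pow_two], Perm.mul_apply,
    Perm.mul_apply, Y_apply hk, Y_apply hk, Y_apply hk]
  exact h

theorem Y_sq {k l : ℕ} (hk : k < 6) (hl : l < 6) (hkl : k ≠ l) : (Y k * Y l) ^ 2 = ζ := by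
  refine Equiv.ext fun i => Fin.ext ?_
  have h := allb_iff.1 (chk_sq k hk l hl hkl) i i.2
  rw [Nat.beq_eq] at h
  rw [show (Y k * Y l) ^ 2 = Y k * (Y l * (Y k * Y l)) from by rw [pow_two, mul_assoc],
    Perm.mul_apply, Perm.mul_apply, Perm.mul_apply, Y_apply hk, Y_apply hl, Y_apply hk,
    Y_apply hl, ζ_apply]
  exact h

theorem ζ_mul : ζ * ζ = 1 := by
  refine Equiv.ext fun i => Fin.ext ?_
  have h := allb_iff.1 chk_zz i i.2
  rw [Nat.beq_eq] at h
  rw [Perm.mul_apply, ζ_apply, ζ_apply]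
  exact h

theorem ζ_ne : ζ ≠ 1 := by
  intro h
  have h1 := congrArg Fin.val (DFunLike.congr_fun h (0 : Fin 240))
  rw [ζ_apply] at h1
  revert h1
  decide +kernel

variable {C : Type*} [Group C] {π : C →* alternatingGroup (Fin 8)} {z : C}

/-- the element `g` acts as the word `ws` -/
def Good (π : C →* alternatingGroup (Fin 8)) (Φ : C →* Perm (Fin 240)) (g : C)
    (ws : List ℕ) : Prop :=
  (∀ i : Fin 240, ((Φ g i : Fin 240) : ℕ) = run ws i) ∧
    ∀ i : Fin 8, 240 + (((π g : Perm (Fin 8)) i : Fin 8) : ℕ) = run ws (240 + (i : ℕ))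

theorem good_one (Φ : C →* Perm (Fin 240)) : Good π Φ 1 [] :=
  ⟨fun i => by rw [map_one]; rfl, fun i => by rw [map_one]; rfl⟩

theorem Good.mul {Φ : C →* Perm (Fin 240)} {g h : C} {ws ws' : List ℕ} (hg : Good π Φ g ws)
    (hh : Good π Φ h ws') : Good π Φ (g * h) (ws ++ ws') := by
  constructor
  · intro i
    rw [map_mul, Perm.mul_apply, hg.1, hh.1, run_append]
  · intro i
    rw [map_mul, Subgroup.coe_mul, Perm.mul_apply, hg.2, hh.2, run_append]

theorem Good.prod {Φ : C →* Perm (Fin 240)} {L : ℕ → C} {t : ℕ → ℕ} (w : List ℕ)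
    (h : ∀ k ∈ w, Good π Φ (L k) [t k]) : Good π Φ (w.map L).prod (w.map t) := by
  induction w with
  | nil => exact good_one Φ
  | cons k w ih =>
    rw [List.map_cons, List.map_cons, List.prod_cons]
    exact (h k List.mem_cons_self).mul (ih fun l hl => h l (List.mem_cons_of_mem _ hl))

theorem Good.congr {Φ : C →* Perm (Fin 240)} {g : C} {ws ws' : List ℕ} (hg : Good π Φ g ws)
    (h : ∀ i < 248, run ws i = run ws' i) : Good π Φ g ws' :=
  ⟨fun i => by rw [hg.1, h i (by omega)], fun i => by rw [hg.2, h _ (by omega)]⟩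

theorem Good.eq (h : IsCover π z) {Φ : C →* Perm (Fin 240)} (hΦ : Φ z = ζ) {g g' : C}
    {ws ws' : List ℕ} (hg : Good π Φ g ws) (hg' : Good π Φ g' ws')
    (hw : ∀ i < 248, run ws i = run ws' i) : g = g' := by
  have h1 : π g = π g' := by
    refine Subtype.ext (Equiv.ext fun i => Fin.ext ?_)
    have e1 := hg.2 i
    have e2 := hg'.2 i
    have := hw (240 + (i : ℕ)) (by omega)
    omega
  rcases h.eq_or_of_map_eq h1 with h2 | h2
  · exact h2
  · exfalso
    have h3 : Φ g = Φ g' := by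
      refine Equiv.ext fun i => Fin.ext ?_
      rw [hg.1, hg'.1, hw i (by omega)]
    rw [h2, map_mul, hΦ, mul_eq_left] at h3
    exact ζ_ne h3

/-- the table of the letter `k` -/
def ltab : ℕ → ℕ := fun k => if k < 7 then tb (12 + k) else tb (k - 7)

/-- equality of two words -/
def chk (w w' : List ℕ) : Bool :=
  allb 248 fun i => Nat.beq (run (w.map ltab) i) (run (w'.map ltab) i)

/-- the words for `a b c x y w` in the Carmichael generators (`0-5`) and their inverses (`6-11`) -/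
def wd : ℕ → List ℕ
  | 0 => [0, 1, 2, 3, 0, 1, 10, 11]
  | 1 => [0, 2, 1, 3, 10, 3, 11, 6, 8]
  | 2 => [0, 1, 2, 3, 0, 1, 4, 5]
  | 3 => [0, 1, 2, 5, 0, 1, 9, 10]
  | 4 => [0, 1, 3, 2, 0, 1, 4, 11, 4]
  | 5 => [0, 1, 2, 5, 0, 1, 3, 4]
  | _ => []

theorem chk_wd : ∀ k < 6, (allb 248 fun i => Nat.beq (run ((wd k).map tb) i)
    (run [ltab k] i)) = true := by decide +kernel

theorem wd_lt : ∀ k < 6, ∀ l ∈ wd k, l < 12 := by decide

theorem chk_cy : ∀ k < 6, ∀ i : Fin 8, 240 + ((cyc 6 k i : Fin 8) : ℕ) =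
    ent (tb k) (240 + (i : ℕ)) := by decide +kernel

theorem chk_cy_inv : ∀ k < 6, ∀ i : Fin 8, 240 + (((cyc 6 k)⁻¹ i : Fin 8) : ℕ) =
    ent (tb (k + 6)) (240 + (i : ℕ)) := by decide +kernel

theorem chk_z8 : ∀ i : Fin 8, 240 + (i : ℕ) = ent (tb 18) (240 + (i : ℕ)) := by decide +kernel

/-- **Computable model of `2.A_8`.** -/
theorem exists_letters (h : IsCover π z) :
    ∃ L : ℕ → C, L 6 = z ∧
      (∀ w w' : List ℕ, (∀ k ∈ w, k < 13) → (∀ k ∈ w', k < 13) → chk w w' = true →
        (w.map L).prod = (w'.map L).prod) ∧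
      (∀ w : List ℕ, (∀ k ∈ w, k < 13) → ∀ i : Fin 8,
        240 + (((π (w.map L).prod : Perm (Fin 8)) i : Fin 8) : ℕ) =
          run (w.map ltab) (240 + (i : ℕ))) ∧
      (∀ k (hk : k < 6), π (L (7 + k)) = cy 6 k hk) := by
  obtain ⟨Φ, hΦ, hΦz⟩ := Cfsg.Agent.SporadicRecognition.AltCoverHom.exists_hom h (by norm_num) Y ζ_mul (fun i hi => Y_cube hi)
    (fun i hi j hj hij => Y_sq hi hj hij)
  choose X hX3 hXπ using fun (k : Fin 6) => h.exists_cube (cy_cube (m := 6) k.2)
  have hgX : ∀ k (hk : k < 6), Good π Φ (X ⟨k, hk⟩) [tb k] := by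
    intro k hk
    constructor
    · intro i
      rw [hΦ k hk _ (hX3 _) (hXπ _), Y_apply hk]; rfl
    · intro i
      rw [hXπ]
      exact chk_cy k hk i
  have hgX' : ∀ k (hk : k < 6), Good π Φ (X ⟨k, hk⟩)⁻¹ [tb (k + 6)] := by
    intro k hk
    constructor
    · intro i
      rw [map_inv, hΦ k hk _ (hX3 _) (hXπ _), Y_inv_apply hk]; rfl
    · intro i
      rw [map_inv, hXπ]
      exact chk_cy_inv k hk i
  let X' : ℕ → C := fun k => if hk : k < 6 then X ⟨k, hk⟩ else
    if hk : k - 6 < 6 then (X ⟨k - 6, hk⟩)⁻¹ else 1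
  have hX' : ∀ k < 12, Good π Φ (X' k) [tb k] := by
    intro k hk
    by_cases h6 : k < 6
    · have : X' k = X ⟨k, h6⟩ := dif_pos h6
      rw [this]; exact hgX k h6
    · have h7 : k - 6 < 6 := by omega
      have : X' k = (X ⟨k - 6, h7⟩)⁻¹ := by
        change (if hk : k < 6 then X ⟨k, hk⟩ else
          if hk : k - 6 < 6 then (X ⟨k - 6, hk⟩)⁻¹ else 1) = _
        rw [dif_neg h6, dif_pos h7]
      rw [this]
      have h8 := hgX' (k - 6) h7
      rwa [show k - 6 + 6 = k by omega] at h8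
  let L : ℕ → C := fun k => if k < 6 then ((wd k).map X').prod else if k = 6 then z else X' (k - 7)
  have hL : ∀ k < 13, Good π Φ (L k) [ltab k] := by
    intro k hk
    by_cases h6 : k < 6
    · have e : L k = ((wd k).map X').prod := if_pos h6
      rw [e]
      refine (Good.prod (wd k) fun l hl => hX' l (wd_lt k h6 l hl)).congr fun i hi => ?_
      have h8 := allb_iff.1 (chk_wd k h6) i hi
      rwa [Nat.beq_eq] at h8
    · by_cases h7 : k = 6
      · have e : L k = z := by
          change (if k < 6 then ((wd k).map X').prod else if k = 6 then z else X' (k - 7)) = z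
          rw [if_neg h6, if_pos h7]
        rw [e, h7]
        constructor
        · intro i
          rw [hΦz]; rfl
        · intro i
          rw [h.map_z]
          exact chk_z8 i
      · have e : L k = X' (k - 7) := by
          change (if k < 6 then ((wd k).map X').prod else if k = 6 then z else X' (k - 7)) = _
          rw [if_neg h6, if_neg h7]
        rw [e]
        have h8 := hX' (k - 7) (by omega)
        have e2 : ltab k = tb (k - 7) := by
          rw [ltab, if_neg (by omega)]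
        rwa [e2]
  have hL6 : L 6 = z := by
    change (if 6 < 6 then ((wd 6).map X').prod else if 6 = 6 then z else X' (6 - 7)) = z
    rw [if_neg (by norm_num), if_pos rfl]
  refine ⟨L, hL6, fun w w' hw hw' hc => ?_, fun w hw i => ?_, fun k hk => ?_⟩
  · refine Good.eq h hΦz (Good.prod w fun k hk => hL k (hw k hk))
      (Good.prod w' fun k hk => hL k (hw' k hk)) fun i hi => ?_
    have h8 := allb_iff.1 hc i hi
    rwa [Nat.beq_eq] at h8
  · exact (Good.prod w fun k hk => hL k (hw k hk)).2 i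
  · have e : L (7 + k) = X' k := by
      change (if 7 + k < 6 then ((wd (7 + k)).map X').prod else
        if 7 + k = 6 then z else X' (7 + k - 7)) = _
      rw [if_neg (by omega), if_neg (by omega), Nat.add_sub_cancel_left]
    rw [e, show X' k = X ⟨k, hk⟩ from dif_pos hk, hXπ]

end Cfsg.Agent.McLType.Model8
end

-- part: McLType/Facts8
section
/-!
# Facts on the double cover of `A_8`

`exists_facts`: the elements `a b c x y w` of the double cover of `A_8` and the structure of the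
centralizer of the involution `u = (babc)^2`.
-/

set_option autoImplicit false
set_option maxRecDepth 100000

namespace Cfsg.Agent.McLType.Facts8

open Equiv
open Cfsg.Agent.SporadicRecognition.AltCover
open Cfsg.Agent.Lib.AltCarmichael
open Model8

/-- the seven letters `a b c x y w z` -/
def letter {G : Type*} (a b c x y w z : G) : ℕ → G
  | 0 => a
  | 1 => b
  | 2 => c
  | 3 => x
  | 4 => y
  | 5 => w
  | _ => z

/-- products of four elements with the bits of a number as exponents -/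
def four {G : Type*} [Group G] (e₀ e₁ e₂ e₃ : G) (i : ℕ) : G :=
  (if i.testBit 0 then e₀ else 1) * (if i.testBit 1 then e₁ else 1) *
    (if i.testBit 2 then e₂ else 1) * (if i.testBit 3 then e₃ else 1)

/-- the facts on the double cover of `A_8` which are used in the local analysis -/
structure Facts {C : Type*} [Group C] (z a b c x y w u : C) : Prop where
  z_ne : z ≠ 1
  z_comm : ∀ k, k * z = z * k
  words : ∀ v v' : List ℕ, (∀ k ∈ v, k < 7) → (∀ k ∈ v', k < 7) → chk v v' = true →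
    (v.map (letter a b c x y w z)).prod = (v'.map (letter a b c x y w z)).prod
  u_def : u = b * a * b * c * (b * a * b * c)
  conj_u : ∀ s, s * s = 1 → s ≠ 1 → s ≠ z → ∃ k, k * s * k⁻¹ = u
  invol : ∀ k, k * u = u * k → k * k = 1 →
    (∃ i < 16, k = four z u c (b * c * b) i) ∨ (∃ i < 16, k = four z u a (b * a * b) i)
  inj₁ : ∀ i < 16, ∀ j < 16, four z u c (b * c * b) i = four z u c (b * c * b) j → i = j
  inj₂ : ∀ i < 16, ∀ j < 16, four z u a (b * a * b) i = four z u a (b * a * b) j → i = j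
  cent₁ : ∀ k, k * u = u * k → k * c = c * k → k * (b * c * b) = b * c * b * k →
    ∃ i < 16, k = four z u c (b * c * b) i
  cent₂ : ∀ k, k * u = u * k → k * a = a * k → k * (b * a * b) = b * a * b * k →
    ∃ i < 16, k = four z u a (b * a * b) i
  cent_rho : ∀ k, k * u = u * k → k * (y * b) = y * b * k →
    ∃ v, (v = 1 ∨ v = z ∨ v = u ∨ v = z * u) ∧ ∃ i < 3, k = v * (y * b) ^ i
  sylow : ∀ k, k * u = u * k → k ^ 3 = 1 → k ≠ 1 →
    ∃ h, h * u = u * h ∧ (h * k * h⁻¹ = y * b ∨ h * k * h⁻¹ = (y * b)⁻¹)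
  gen : Subgroup.closure {a, b, c, x, y, w} = ⊤


/-- the word of `u` -/
def wu : List ℕ := [1, 0, 1, 2, 1, 0, 1, 2]

/-- words of the elements of `A_1` -/
def w1 (i : ℕ) : List ℕ :=
  (if i.testBit 0 then [6] else []) ++ (if i.testBit 1 then wu else []) ++
    (if i.testBit 2 then [2] else []) ++ (if i.testBit 3 then [1, 2, 1] else [])

/-- words of the elements of `A_2` -/
def w2 (i : ℕ) : List ℕ :=
  (if i.testBit 0 then [6] else []) ++ (if i.testBit 1 then wu else []) ++
    (if i.testBit 2 then [0] else []) ++ (if i.testBit 3 then [1, 0, 1] else [])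

/-- action of a word on the letters `0, …, 7` -/
def actw (w : List ℕ) (j : ℕ) : ℕ := run (w.map ltab) (240 + j) - 240

theorem actw_cover {C : Type*} [Group C] {π : C →* alternatingGroup (Fin 8)} {L : ℕ → C}
    (hact : ∀ w : List ℕ, (∀ k ∈ w, k < 13) → ∀ i : Fin 8,
      240 + (((π (w.map L).prod : Perm (Fin 8)) i : Fin 8) : ℕ) = run (w.map ltab) (240 + (i : ℕ)))
    {w : List ℕ} (hw : ∀ k ∈ w, k < 13) (i : Fin 8) :
    (((π (w.map L).prod : Perm (Fin 8)) i : Fin 8) : ℕ) = actw w i := by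
  have := hact w hw i
  rw [actw]; omega

theorem w1_lt : ∀ i < 16, ∀ k ∈ w1 i, k < 13 := by decide
theorem w2_lt : ∀ i < 16, ∀ k ∈ w2 i, k < 13 := by decide
theorem w1_lt' : ∀ i < 16, ∀ k ∈ w1 i, k < 7 := by decide
theorem w2_lt' : ∀ i < 16, ∀ k ∈ w2 i, k < 7 := by decide

/-- value at `i` of the permutation commuting with `μ = (01)(23)(45)(67)` with images `p q r s` of
`0 2 4 6` -/
def F (p q r s i : ℕ) : ℕ :=
  match i with
  | 0 => p
  | 1 => Nat.xor p 1
  | 2 => q
  | 3 => Nat.xor q 1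
  | 4 => r
  | 5 => Nat.xor r 1
  | 6 => s
  | _ => Nat.xor s 1

theorem not_beq {i j : ℕ} : (Nat.beq i j).not = true ↔ i ≠ j := by
  rw [Bool.not_eq_true', ← Bool.not_eq_true, Nat.beq_eq]

/-- some number below a bound passes a test -/
def anyb : ℕ → (ℕ → Bool) → Bool
  | 0, _ => false
  | n + 1, f => (f n).or (anyb n f)

theorem anyb_iff {n : ℕ} {f : ℕ → Bool} : anyb n f = true ↔ ∃ i < n, f i = true := by
  induction n with
  | zero => simp [anyb]
  | succ n ih =>
    rw [anyb, Bool.or_eq_true, ih]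
    constructor
    · rintro (h | ⟨i, hi, h⟩)
      · exact ⟨n, Nat.lt_succ_self n, h⟩
      · exact ⟨i, Nat.lt_succ_of_lt hi, h⟩
    · rintro ⟨i, hi, h⟩
      rcases Nat.lt_succ_iff_lt_or_eq.1 hi with h1 | h1
      · exact Or.inr ⟨i, h1, h⟩
      · exact Or.inl (h1 ▸ h)

/-- the test for the involutions commuting with `u` -/
def tInv (f : ℕ → ℕ) : Bool :=
  (allb 8 fun i => (Nat.beq (f (f i)) i).and (Nat.beq (f i) i).not).and
    ((allb 8 fun i => Nat.beq (f i) (Nat.xor i 1)).or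
      (allb 8 fun i => (Nat.beq (f i) (Nat.xor i 1)).not))

/-- `f` is the action of one of the elements of `A_1` or `A_2` -/
def tMem (f : ℕ → ℕ) : Bool :=
  (anyb 16 fun l => allb 8 fun i => Nat.beq (f i) (actw (w1 l) i)).or
    (anyb 16 fun l => allb 8 fun i => Nat.beq (f i) (actw (w2 l) i))

theorem chk_inv : (allb 8 fun p => allb 8 fun q => allb 8 fun r => allb 8 fun s =>
    (tInv (F p q r s)).not.or (tMem (F p q r s))) = true := by decide +kernel

/-- the action of `ρ` -/
def ρ8 (i : ℕ) : ℕ := actw [4, 1] i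

/-- the test for the elements of order three commuting with `u` -/
def tThree (f : ℕ → ℕ) : Bool :=
  (allb 8 fun i => Nat.beq (f (f (f i))) i).and (anyb 8 fun i => (Nat.beq (f i) i).not)

/-- `S` is a bijection with `S ρ = f S` -/
def tConj (f S : ℕ → ℕ) : Bool :=
  (allb 8 fun i => allb 8 fun j => (Nat.beq i j).or (Nat.beq (S i) (S j)).not).and
    (allb 8 fun i => (Nat.beq (S (ρ8 i)) (f (S i))).and (Nat.blt (S i) 8))

theorem chk_three : (allb 8 fun p => allb 8 fun q => allb 8 fun r => allb 8 fun s =>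
    (tThree (F p q r s)).not.or (anyb 8 fun p' => anyb 8 fun s' =>
      tConj (F p q r s) (F p' (F p q r s p') (F p q r s (F p q r s p')) s'))) = true := by
  decide +kernel

theorem act_u : ∀ i < 8, actw wu i = Nat.xor i 1 := by decide +kernel

theorem act_reg1 : ∀ j < 8, ∃ l < 8, actw (w1 (2 * l)) 0 = j := by decide +kernel
theorem act_reg2 : ∀ j < 8, ∃ l < 8, actw (w2 (2 * l)) 0 = j := by decide +kernel
theorem act_com1 : ∀ p < 8, ∃ i < 8, ∀ l < 8,
    actw (w1 (2 * l)) p = actw (w1 (2 * i)) (actw (w1 (2 * l)) 0) := by decide +kernel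
theorem act_com2 : ∀ p < 8, ∃ i < 8, ∀ l < 8,
    actw (w2 (2 * l)) p = actw (w2 (2 * i)) (actw (w2 (2 * l)) 0) := by decide +kernel

theorem chk_w1z : ∀ i < 16, ∀ j < 16, actw (w1 i) 0 = actw (w1 j) 0 →
    i = j ∨ chk (w1 i) (6 :: w1 j) = true := by decide +kernel
theorem chk_w2z : ∀ i < 16, ∀ j < 16, actw (w2 i) 0 = actw (w2 j) 0 →
    i = j ∨ chk (w2 i) (6 :: w2 j) = true := by decide +kernel

theorem chk_w1zz : ∀ i < 8, chk (w1 (2 * i) ++ [6]) (w1 (2 * i + 1)) = true := by decide +kernel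
theorem chk_w2zz : ∀ i < 8, chk (w2 (2 * i) ++ [6]) (w2 (2 * i + 1)) = true := by decide +kernel
theorem chk_w1zz' : ∀ i < 16, ∃ j < 16, chk (w1 i ++ [6]) (w1 j) = true := by decide +kernel
theorem chk_w2zz' : ∀ i < 16, ∃ j < 16, chk (w2 i ++ [6]) (w2 j) = true := by decide +kernel

/-- the words of the generators `7, …, 12` in `a b c x y w` -/
def gw : ℕ → List ℕ
  | 0 => [1, 0, 3, 5, 2, 1]
  | 1 => [2, 3, 0, 5]
  | 2 => [0, 4, 3, 5, 2, 4]
  | 3 => [4, 1, 2, 3, 0, 1, 5, 4]
  | 4 => [0, 1, 0, 4, 3, 5, 2, 4, 1, 2]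
  | _ => [1, 2, 4, 3, 0, 5, 4, 1]

theorem gw_lt : ∀ k < 6, ∀ l ∈ gw k, l < 6 := by decide

theorem chk_gw : ∀ k < 6, chk [7 + k] (gw k) = true := by decide +kernel

theorem chk_gz : chk [6] [0, 2, 0, 2] = true := by decide +kernel

theorem rho_facts : (∀ i < 8, ρ8 (ρ8 (ρ8 i)) = i) ∧ (∀ i < 8, ρ8 i < 8) := by decide +kernel


theorem map_four {G H : Type*} [Group G] [Group H] (f : G →* H) (e₀ e₁ e₂ e₃ : G) (i : ℕ) :
    f (four e₀ e₁ e₂ e₃ i) = four (f e₀) (f e₁) (f e₂) (f e₃) i := by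
  simp only [four, map_mul, apply_ite f, map_one]

theorem four_comm {G : Type*} [Group G] {e₀ e₁ e₂ e₃ k : G} (h₀ : k * e₀ = e₀ * k)
    (h₁ : k * e₁ = e₁ * k) (h₂ : k * e₂ = e₂ * k) (h₃ : k * e₃ = e₃ * k) (i : ℕ) :
    k * four e₀ e₁ e₂ e₃ i = four e₀ e₁ e₂ e₃ i * k := by
  have key : ∀ (e : G) (p : Bool), Commute k e → Commute k (if p then e else 1) := by
    intro e p h
    cases p
    · simp
    · simpa using h
  exact (((key _ _ h₀).mul_right (key _ _ h₁)).mul_right (key _ _ h₂)).mul_right (key _ _ h₃)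

section proof

variable {C : Type*} [Group C] {π : C →* alternatingGroup (Fin 8)} {z : C}

theorem prod_w1 (L : ℕ → C) (i : ℕ) : ((w1 i).map L).prod =
    four (L 6) (L 1 * L 0 * L 1 * L 2 * (L 1 * L 0 * L 1 * L 2)) (L 2) (L 1 * L 2 * L 1) i := by
  simp only [w1, four, List.map_append, List.prod_append, apply_ite (List.map L),
    apply_ite List.prod, wu, List.map_cons, List.map_nil, List.prod_cons, List.prod_nil, mul_one,
    mul_assoc]

theorem prod_w2 (L : ℕ → C) (i : ℕ) : ((w2 i).map L).prod =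
    four (L 6) (L 1 * L 0 * L 1 * L 2 * (L 1 * L 0 * L 1 * L 2)) (L 0) (L 1 * L 0 * L 1) i := by
  simp only [w2, four, List.map_append, List.prod_append, apply_ite (List.map L),
    apply_ite List.prod, wu, List.map_cons, List.map_nil, List.prod_cons, List.prod_nil, mul_one,
    mul_assoc]

/-- action of the element `k` on the numbers `0, …, 7` -/
def pk (π : C →* alternatingGroup (Fin 8)) (k : C) (i : ℕ) : ℕ :=
  if h : i < 8 then (((π k : Perm (Fin 8)) ⟨i, h⟩ : Fin 8) : ℕ) else i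

theorem pk_lt (k : C) {i : ℕ} (hi : i < 8) : pk π k i < 8 := by
  rw [pk, dif_pos hi]; exact Fin.is_lt _

theorem pk_fin (k : C) (i : Fin 8) : pk π k i = (((π k : Perm (Fin 8)) i : Fin 8) : ℕ) := by
  rw [pk, dif_pos i.2]

theorem pk_mul (k k' : C) {i : ℕ} (hi : i < 8) : pk π (k * k') i = pk π k (pk π k' i) := by
  have h1 := pk_fin (π := π) (k * k') ⟨i, hi⟩
  have h2 := pk_fin (π := π) k' ⟨i, hi⟩
  have h3 := pk_fin (π := π) k ((π k' : Perm (Fin 8)) ⟨i, hi⟩)
  rw [map_mul, Subgroup.coe_mul, Perm.mul_apply] at h1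
  change pk π (k * k') i = _ at h1
  change pk π k' i = _ at h2
  rw [h1, h2, h3]

theorem pk_one {i : ℕ} : pk π (1 : C) i = i := by
  rw [pk]
  split_ifs with h
  · rw [map_one]; rfl
  · rfl

theorem pk_ext {k k' : C} (h : ∀ i < 8, pk π k i = pk π k' i) : π k = π k' := by
  refine Subtype.ext (Equiv.ext fun i => Fin.ext ?_)
  rw [← pk_fin, ← pk_fin]
  exact h i i.2

theorem pk_inj {k : C} {i j : ℕ} (hi : i < 8) (hj : j < 8) (h : pk π k i = pk π k j) : i = j := by
  rw [pk, pk, dif_pos hi, dif_pos hj] at h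
  have := (π k : Perm (Fin 8)).injective (Fin.ext h)
  exact congrArg Fin.val this

/-- bundled data of the letters -/
structure LData (π : C →* alternatingGroup (Fin 8)) (z : C) (L : ℕ → C) : Prop where
  cover : IsCover π z
  z6 : L 6 = z
  eq : ∀ w w' : List ℕ, (∀ k ∈ w, k < 13) → (∀ k ∈ w', k < 13) → chk w w' = true →
    (w.map L).prod = (w'.map L).prod
  act' : ∀ w : List ℕ, (∀ k ∈ w, k < 13) → ∀ i : Fin 8,
    240 + (((π (w.map L).prod : Perm (Fin 8)) i : Fin 8) : ℕ) =
      run (w.map ltab) (240 + (i : ℕ))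
  cy : ∀ k (hk : k < 6), π (L (7 + k)) = cy 6 k hk

theorem exists_ldata (h : IsCover π z) : ∃ L, LData π z L := by
  obtain ⟨L, h1, h2, h3, h4⟩ := exists_letters h
  exact ⟨L, h, h1, h2, h3, h4⟩

namespace LData

variable {L : ℕ → C} (D : LData π z L)

include D

theorem act {w : List ℕ} (hw : ∀ k ∈ w, k < 13) {i : ℕ} (hi : i < 8) :
    pk π (w.map L).prod i = actw w i := by
  have h1 := D.act' w hw ⟨i, hi⟩
  have h2 := pk_fin (π := π) (w.map L).prod ⟨i, hi⟩
  change pk π (w.map L).prod i = _ at h2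
  rw [h2, actw]
  change _ = run (w.map ltab) (240 + i) at h1
  omega

theorem eq_or {k : C} {w : List ℕ} (hw : ∀ k ∈ w, k < 13)
    (h : ∀ i < 8, pk π k i = actw w i) :
    k = (w.map L).prod ∨ k = ((w ++ [6]).map L).prod := by
  have h1 : π k = π (w.map L).prod := pk_ext fun i hi => by rw [h i hi, D.act hw hi]
  rcases D.cover.eq_or_of_map_eq h1 with h2 | h2
  · exact Or.inl h2
  · right
    rw [h2, List.map_append, List.prod_append, List.map_singleton, List.prod_singleton, D.z6]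

omit D in
/-- the involution `u` -/
theorem prod_wu : ((wu).map L).prod = L 1 * L 0 * L 1 * L 2 * (L 1 * L 0 * L 1 * L 2) := by
  simp only [wu, List.map_cons, List.map_nil, List.prod_cons, List.prod_nil, mul_one, mul_assoc]

theorem pk_comm_u {k : C} (hk : k * (wu.map L).prod = (wu.map L).prod * k) {i : ℕ} (hi : i < 8) :
    pk π k (Nat.xor i 1) = Nat.xor (pk π k i) 1 := by
  have h1 : pk π (k * (wu.map L).prod) i = pk π ((wu.map L).prod * k) i := by rw [hk]
  rw [pk_mul _ _ hi, pk_mul _ _ hi, D.act (by decide) hi, D.act (by decide) (pk_lt k hi),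
    act_u i hi, act_u _ (pk_lt k hi)] at h1
  exact h1

theorem pk_eq_F {k : C} (hk : k * (wu.map L).prod = (wu.map L).prod * k) {i : ℕ} (hi : i < 8) :
    pk π k i = F (pk π k 0) (pk π k 2) (pk π k 4) (pk π k 6) i := by
  have h0 := D.pk_comm_u hk (i := 0) (by norm_num)
  have h2 := D.pk_comm_u hk (i := 2) (by norm_num)
  have h4 := D.pk_comm_u hk (i := 4) (by norm_num)
  have h6 := D.pk_comm_u hk (i := 6) (by norm_num)
  interval_cases i
  · rfl
  · exact h0
  · rfl
  · exact h2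
  · rfl
  · exact h4
  · rfl
  · exact h6

/-- nontrivial involutions other than `z` move all letters -/
theorem pk_ne {k : C} (hk : k * k = 1) (h1 : k ≠ 1) (hz : k ≠ z) {i : ℕ} (hi : i < 8) :
    pk π k i ≠ i := by
  have h2 := ((Cfsg.Agent.SporRec.TwoAn.ofIsCover (by norm_num) D.cover).sq_eq_one_iff
    (g := k)).1 hk
  obtain ⟨h3, m, hm⟩ := h2
  change (π k : Perm (Fin 8)).support.card = 8 * m at hm
  have h4 : (π k : Perm (Fin 8)).support.card ≤ 8 := by
    have := Finset.card_le_univ (π k : Perm (Fin 8)).support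
    simpa using this
  have h5 : m ≠ 0 := by
    rintro rfl
    rw [mul_zero, Finset.card_eq_zero, Perm.support_eq_empty_iff] at hm
    rcases (D.cover.ker k).1 (Subtype.ext hm) with h6 | h6
    · exact h1 h6
    · exact hz h6
  have h6 : (π k : Perm (Fin 8)).support = Finset.univ := by
    rw [← Finset.card_eq_iff_eq_univ, Fintype.card_fin]
    omega
  have h7 : (⟨i, hi⟩ : Fin 8) ∈ (π k : Perm (Fin 8)).support := by rw [h6]; exact Finset.mem_univ _
  rw [Perm.mem_support] at h7
  intro h8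
  apply h7
  rw [pk, dif_pos hi] at h8
  exact Fin.ext h8

theorem invol {k : C} (hk : k * (wu.map L).prod = (wu.map L).prod * k) (hk2 : k * k = 1) :
    (∃ i < 16, k = ((w1 i).map L).prod) ∨ (∃ i < 16, k = ((w2 i).map L).prod) := by
  by_cases h1 : k = 1
  · left
    exact ⟨0, by norm_num, h1⟩
  by_cases hz : k = z
  · left
    refine ⟨1, by norm_num, ?_⟩
    rw [hz, ← D.z6]
    change L 6 = L 6 * 1
    rw [mul_one]
  have hfp : ∀ i < 8, pk π k i ≠ i := fun i hi => D.pk_ne hk2 h1 hz hi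
  set u := (wu.map L).prod with hu
  have huu : u * u = 1 := by
    have := D.eq (wu ++ wu) [] (by decide) (by decide) (by decide +kernel)
    rwa [List.map_append, List.prod_append] at this
  have hku : (k * u) * (k * u) = 1 := by
    calc (k * u) * (k * u) = k * (u * k) * u := by group
      _ = (k * k) * (u * u) := by rw [← hk]; group
      _ = 1 := by rw [hk2, huu, mul_one]
  set f := F (pk π k 0) (pk π k 2) (pk π k 4) (pk π k 6) with hf
  have hF : ∀ i < 8, f i = pk π k i := fun i hi => (D.pk_eq_F hk hi).symm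
  have hlt : ∀ i < 8, pk π k i < 8 := fun i hi => pk_lt k hi
  have hT : tInv f = true := by
    rw [tInv, Bool.and_eq_true]
    constructor
    · rw [allb_iff]
      intro i hi
      rw [Bool.and_eq_true, Nat.beq_eq, hF i hi, hF _ (hlt i hi), ← pk_mul _ _ hi, hk2, pk_one]
      refine ⟨rfl, ?_⟩
      rw [not_beq]
      exact hfp i hi
    · rw [Bool.or_eq_true]
      by_cases h2 : π (k * u) = 1
      · left
        rw [allb_iff]
        intro i hi
        rw [Nat.beq_eq, hF i hi]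
        have h3 : π k = π u := by
          have h4 : π u * π u = 1 := by rw [← map_mul, huu, map_one]
          rw [map_mul, mul_eq_one_iff_eq_inv] at h2
          rw [h2, inv_eq_of_mul_eq_one_left h4]
        have h5 : pk π k i = pk π u i := by simp only [pk, h3]
        rw [h5, hu, D.act (by decide) hi, act_u i hi]
      · right
        rw [allb_iff]
        intro i hi
        rw [not_beq, hF i hi]
        intro h3
        have hx : i.xor 1 < 8 := by
          interval_cases i <;> decide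
        refine D.pk_ne hku ?_ ?_ hx ?_
        · intro h4; apply h2; rw [h4, map_one]
        · intro h4; apply h2; rw [h4, D.cover.map_z]
        · rw [pk_mul _ _ hx, hu, D.act (by decide) hx, act_u _ hx]
          have : (i.xor 1).xor 1 = i := by interval_cases i <;> rfl
          rw [this, h3]
  have h3 := chk_inv
  rw [allb_iff] at h3
  have h3 := h3 _ (hlt 0 (by norm_num))
  rw [allb_iff] at h3
  have h3 := h3 _ (hlt 2 (by norm_num))
  rw [allb_iff] at h3
  have h3 := h3 _ (hlt 4 (by norm_num))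
  rw [allb_iff] at h3
  have h3 := h3 _ (hlt 6 (by norm_num))
  rw [← hf, hT, Bool.not_true, Bool.false_or, tMem, Bool.or_eq_true, anyb_iff, anyb_iff] at h3
  rcases h3 with ⟨l, hl, h4⟩ | ⟨l, hl, h4⟩
  · left
    rw [allb_iff] at h4
    rcases D.eq_or (k := k) (w1_lt l hl) (fun i hi => by
      have := h4 i hi
      rwa [Nat.beq_eq, hF i hi] at this) with h5 | h5
    · exact ⟨l, hl, h5⟩
    · obtain ⟨j, hj, h6⟩ := chk_w1zz' l hl
      refine ⟨j, hj, ?_⟩
      rw [h5]
      exact D.eq _ _ (by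
        intro m hm
        rcases List.mem_append.1 hm with h | h
        · exact w1_lt l hl m h
        · rw [List.mem_singleton.1 h]; norm_num) (w1_lt j hj) h6
  · right
    rw [allb_iff] at h4
    rcases D.eq_or (k := k) (w2_lt l hl) (fun i hi => by
      have := h4 i hi
      rwa [Nat.beq_eq, hF i hi] at this) with h5 | h5
    · exact ⟨l, hl, h5⟩
    · obtain ⟨j, hj, h6⟩ := chk_w2zz' l hl
      refine ⟨j, hj, ?_⟩
      rw [h5]
      exact D.eq _ _ (by
        intro m hm
        rcases List.mem_append.1 hm with h | h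
        · exact w2_lt l hl m h
        · rw [List.mem_singleton.1 h]; norm_num) (w2_lt j hj) h6

/-- an element commuting with the family `fam` regular on the letters belongs to it -/
theorem cent_fam {fam : ℕ → List ℕ} (hlt : ∀ i < 16, ∀ k ∈ fam i, k < 13)
    (hreg : ∀ j < 8, ∃ l < 8, actw (fam (2 * l)) 0 = j)
    (hcom : ∀ p < 8, ∃ i < 8, ∀ l < 8,
      actw (fam (2 * l)) p = actw (fam (2 * i)) (actw (fam (2 * l)) 0))
    (hz : ∀ i < 16, ∃ j < 16, chk (fam i ++ [6]) (fam j) = true) {k : C}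
    (hk : ∀ l < 16, k * ((fam l).map L).prod = ((fam l).map L).prod * k) :
    ∃ i < 16, k = ((fam i).map L).prod := by
  have h0 : pk π k 0 < 8 := pk_lt k (by norm_num)
  obtain ⟨i, hi, h1⟩ := hcom _ h0
  have h2 : ∀ j < 8, pk π k j = actw (fam (2 * i)) j := by
    intro j hj
    obtain ⟨l, hl, rfl⟩ := hreg j hj
    have h3 : pk π (k * ((fam (2 * l)).map L).prod) 0 = pk π (((fam (2 * l)).map L).prod * k) 0 := by
      rw [hk (2 * l) (by omega)]
    rw [pk_mul _ _ (by norm_num), pk_mul _ _ (by norm_num),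
      D.act (hlt _ (by omega)) (by norm_num), D.act (hlt _ (by omega)) h0] at h3
    rw [h3]
    exact h1 l hl
  rcases D.eq_or (k := k) (hlt (2 * i) (by omega)) h2 with h5 | h5
  · exact ⟨2 * i, by omega, h5⟩
  · obtain ⟨j, hj, h6⟩ := hz (2 * i) (by omega)
    refine ⟨j, hj, ?_⟩
    rw [h5]
    exact D.eq _ _ (by
      intro m hm
      rcases List.mem_append.1 hm with h | h
      · exact hlt _ (by omega) m h
      · rw [List.mem_singleton.1 h]; norm_num) (hlt j hj) h6

theorem inj_fam {fam : ℕ → List ℕ} (hlt : ∀ i < 16, ∀ k ∈ fam i, k < 13)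
    (hz : ∀ i < 16, ∀ j < 16, actw (fam i) 0 = actw (fam j) 0 →
      i = j ∨ chk (fam i) (6 :: fam j) = true) {i j : ℕ} (hi : i < 16) (hj : j < 16)
    (h : ((fam i).map L).prod = ((fam j).map L).prod) : i = j := by
  have h1 : actw (fam i) 0 = actw (fam j) 0 := by
    rw [← D.act (hlt i hi) (by norm_num), ← D.act (hlt j hj) (by norm_num), h]
  rcases hz i hi j hj h1 with h2 | h2
  · exact h2
  · exfalso
    have h3 := D.eq _ _ (hlt i hi) (by
      intro m hm
      rcases List.mem_cons.1 hm with h | h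
      · rw [h]; norm_num
      · exact hlt j hj m h) h2
    rw [List.map_cons, List.prod_cons, D.z6, h, eq_comm, mul_eq_right] at h3
    exact D.cover.z_ne h3

theorem sq {k : ℕ} (hk : k < 7) : L k * L k = 1 := by
  have : ∀ k < 7, chk [k, k] [] = true := by decide +kernel
  have h1 := D.eq [k, k] [] (by
    intro m hm
    simp only [List.mem_cons, List.not_mem_nil, or_false, or_self] at hm
    omega) (by simp) (this k hk)
  simpa using h1

theorem bu_u : L 1 * (wu.map L).prod * L 1 = (wu.map L).prod * z := by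
  have h1 := D.eq ([1] ++ wu ++ [1]) (wu ++ [6]) (by decide) (by decide) (by decide +kernel)
  simpa only [List.map_append, List.prod_append, List.map_cons, List.map_nil, List.prod_cons,
    List.prod_nil, mul_one, D.z6] using h1

theorem conj_or {k s : C} (h : π (k * s * k⁻¹) = π (wu.map L).prod) :
    ∃ k', k' * s * k'⁻¹ = (wu.map L).prod := by
  rcases D.cover.eq_or_of_map_eq h with h1 | h1
  · exact ⟨k, h1⟩
  · refine ⟨L 1 * k, ?_⟩
    have hb := D.sq (k := 1) (by norm_num)
    have hbi : (L 1)⁻¹ = L 1 := inv_eq_of_mul_eq_one_left hb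
    calc L 1 * k * s * (L 1 * k)⁻¹ = L 1 * (k * s * k⁻¹) * L 1 := by rw [mul_inv_rev, hbi]; group
      _ = L 1 * (wu.map L).prod * L 1 * z := by
        rw [h1]
        calc L 1 * ((wu.map L).prod * z) * L 1 = L 1 * (wu.map L).prod * (z * L 1) := by group
          _ = L 1 * (wu.map L).prod * L 1 * z := by rw [← D.cover.z_comm]; group
      _ = (wu.map L).prod := by rw [D.bu_u, mul_assoc, D.cover.z_mul, mul_one]

theorem cycleType_eq {k : C} (hk : k * k = 1) (h1 : k ≠ 1) (hz : k ≠ z) :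
    (π k : Perm (Fin 8)).cycleType = Multiset.replicate 4 2 := by
  have hne : (π k : Perm (Fin 8)) ≠ 1 := by
    intro h
    have h2 := DFunLike.congr_fun h (⟨0, by norm_num⟩ : Fin 8)
    have h3 := D.pk_ne hk h1 hz (i := 0) (by norm_num)
    apply h3
    rw [pk, dif_pos (by norm_num), h2]
    rfl
  have h2 : (π k : Perm (Fin 8)) ^ 2 = 1 := by
    rw [pow_two, ← Subgroup.coe_mul, ← map_mul, hk, map_one]; rfl
  have ho : orderOf (π k : Perm (Fin 8)) = 2 := orderOf_eq_prime h2 hne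
  obtain ⟨n, hn⟩ := Perm.cycleType_prime_order (σ := (π k : Perm (Fin 8))) (by rw [ho]; norm_num)
  have hs := Perm.sum_cycleType (π k : Perm (Fin 8))
  have hu : (π k : Perm (Fin 8)).support = Finset.univ := by
    rw [Finset.eq_univ_iff_forall]
    intro i
    rw [Perm.mem_support]
    intro h
    exact D.pk_ne hk h1 hz i.2 (by rw [pk_fin, h])
  rw [hn, Multiset.sum_replicate, hu, Finset.card_univ, Fintype.card_fin, ho, smul_eq_mul] at hs
  have : n = 3 := by omega
  rw [hn, this, ho]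

theorem u_ne : (wu.map L).prod ≠ 1 ∧ (wu.map L).prod ≠ z := by
  have h0 := D.act (w := wu) (by decide) (i := 0) (by norm_num)
  rw [act_u 0 (by norm_num)] at h0
  constructor
  · intro h
    rw [h, pk_one] at h0
    revert h0; decide
  · intro h
    rw [h, pk, dif_pos (by norm_num), D.cover.map_z] at h0
    revert h0; decide

theorem u_sq : (wu.map L).prod * (wu.map L).prod = 1 := by
  have := D.eq (wu ++ wu) [] (by decide) (by decide) (by decide +kernel)
  rwa [List.map_append, List.prod_append] at this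

theorem conj_u {s : C} (hs : s * s = 1) (h1 : s ≠ 1) (hz : s ≠ z) :
    ∃ k, k * s * k⁻¹ = (wu.map L).prod := by
  have e1 := D.cycleType_eq hs h1 hz
  have e2 := D.cycleType_eq D.u_sq D.u_ne.1 D.u_ne.2
  obtain ⟨g, hg⟩ := isConj_iff.1 (Perm.isConj_iff_cycleType_eq.2 (e1.trans e2.symm))
  set μ : Perm (Fin 8) := (π (wu.map L).prod : Perm (Fin 8)) with hμ
  have hμi : ∀ i : Fin 8, ((μ i : Fin 8) : ℕ) = Nat.xor i 1 := by
    intro i
    rw [hμ, ← pk_fin, D.act (by decide) i.2, act_u _ i.2]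
  have hsw : swap (0 : Fin 8) 1 * μ * (swap (0 : Fin 8) 1)⁻¹ = μ := by
    have h01 : swap (0 : Fin 8) 1 * μ = μ * swap (0 : Fin 8) 1 := by
      have hval : ∀ i : Fin 8, μ i = (![1, 0, 3, 2, 5, 4, 7, 6] : Fin 8 → Fin 8) i := by
        have hx : ∀ i : Fin 8, Nat.xor i 1 =
            (((![1, 0, 3, 2, 5, 4, 7, 6] : Fin 8 → Fin 8) i : Fin 8) : ℕ) := by decide
        exact fun i => Fin.ext ((hμi i).trans (hx i))
      refine Equiv.ext fun i => ?_
      rw [Perm.mul_apply, Perm.mul_apply, hval, hval]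
      revert i
      decide
    rw [h01, mul_inv_cancel_right]
  obtain ⟨g', hg', hev⟩ : ∃ g' : Perm (Fin 8), g' * (π s : Perm (Fin 8)) * g'⁻¹ = μ ∧
      g' ∈ alternatingGroup (Fin 8) := by
    rcases Int.units_eq_one_or (Perm.sign g) with h | h
    · exact ⟨g, hg, Perm.mem_alternatingGroup.2 h⟩
    · refine ⟨swap (0 : Fin 8) 1 * g, ?_, ?_⟩
      · rw [mul_inv_rev]
        calc swap (0 : Fin 8) 1 * g * (π s : Perm (Fin 8)) * (g⁻¹ * (swap (0 : Fin 8) 1)⁻¹) =
            swap (0 : Fin 8) 1 * (g * (π s : Perm (Fin 8)) * g⁻¹) * (swap (0 : Fin 8) 1)⁻¹ := by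
              group
          _ = μ := by rw [hg, hsw]
      · rw [Perm.mem_alternatingGroup, map_mul, h, Perm.sign_swap (by decide)]
        norm_num
  obtain ⟨k, hk⟩ := D.cover.surj ⟨g', hev⟩
  refine D.conj_or (k := k) ?_
  apply Subtype.ext
  rw [map_mul, map_mul, map_inv, hk]
  exact hg'

theorem mem_closure : Subgroup.closure {L 0, L 1, L 2, L 3, L 4, L 5} = ⊤ := by
  set S := Subgroup.closure {L 0, L 1, L 2, L 3, L 4, L 5} with hS
  have h6 : ∀ k < 6, L k ∈ S := by
    intro k hk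
    apply Subgroup.subset_closure
    interval_cases k <;> simp
  have hw : ∀ w : List ℕ, (∀ k ∈ w, k < 6) → (w.map L).prod ∈ S := by
    intro w hw
    refine Subgroup.list_prod_mem _ fun g hg => ?_
    obtain ⟨k, hk, rfl⟩ := List.mem_map.1 hg
    exact h6 k (hw k hk)
  have hzS : z ∈ S := by
    have h1 := D.eq _ _ (by decide) (by decide) chk_gz
    rw [List.map_singleton, List.prod_singleton, D.z6] at h1
    rw [h1]
    exact hw _ (by decide)
  have hX : ∀ k < 6, L (7 + k) ∈ S := by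
    intro k hk
    have h1 := D.eq [7 + k] (gw k) (by simp; omega)
      (fun l hl => (gw_lt k hk l hl).trans (by norm_num)) (chk_gw k hk)
    rw [List.map_singleton, List.prod_singleton] at h1
    rw [h1]
    exact hw _ (gw_lt k hk)
  let f : C →* Perm (Fin 8) := (alternatingGroup (Fin 8)).subtype.comp π
  have hle : alternatingGroup (Fin (6 + 2)) ≤ S.map f := by
    rw [← gen_cyc 6 (by norm_num), gen_def, Subgroup.closure_le]
    rintro _ ⟨i, hi, rfl⟩
    exact ⟨L (7 + i), hX i hi, congrArg Subtype.val (D.cy i hi)⟩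
  rw [Subgroup.eq_top_iff']
  intro g
  obtain ⟨s, hs, h1⟩ := hle (π g).2
  rcases D.cover.eq_or_of_map_eq (x := g) (y := s) (Subtype.ext h1.symm) with h2 | h2
  · rw [h2]; exact hs
  · rw [h2]; exact mul_mem hs hzS

/-- the element `ρ` -/
theorem pk_rho {i : ℕ} (hi : i < 8) : pk π (L 4 * L 1) i = ρ8 i := by
  have h := D.act (w := [4, 1]) (by decide) hi
  rw [List.map_cons, List.map_singleton, List.prod_cons, List.prod_singleton] at h
  exact h

theorem rho_cube : (L 4 * L 1) ^ 3 = 1 := by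
  have h1 := D.eq ([4, 1] ++ [4, 1] ++ [4, 1]) [] (by decide) (by decide) (by decide +kernel)
  simp only [List.map_append, List.prod_append, List.map_cons, List.map_nil, List.prod_cons,
    List.prod_nil, mul_one] at h1
  rw [pow_succ, pow_two, h1]

theorem rho_inv : (L 4 * L 1)⁻¹ = L 1 * L 4 := by
  rw [mul_inv_rev, inv_eq_of_mul_eq_one_left (D.sq (k := 1) (by norm_num)),
    inv_eq_of_mul_eq_one_left (D.sq (k := 4) (by norm_num))]

theorem cent_rho {k : C} (hk : k * (wu.map L).prod = (wu.map L).prod * k)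
    (hr : k * (L 4 * L 1) = L 4 * L 1 * k) :
    ∃ e < 2, ∃ i < 2, ∃ j < 3, k = (L 6) ^ e * ((wu.map L).prod) ^ i * (L 4 * L 1) ^ j := by
  have huρ : (wu.map L).prod * (L 4 * L 1) = L 4 * L 1 * (wu.map L).prod := by
    have h1 := D.eq (wu ++ [4, 1]) ([4, 1] ++ wu) (by decide) (by decide) (by decide +kernel)
    simpa only [List.map_append, List.prod_append, List.map_cons, List.map_nil, List.prod_cons,
      List.prod_nil, mul_one] using h1
  have hkr : ∀ i < 8, pk π k (ρ8 i) = ρ8 (pk π k i) := by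
    intro i hi
    rw [← D.pk_rho hi, ← pk_mul _ _ hi, hr, pk_mul _ _ hi, D.pk_rho (pk_lt k hi)]
  have hp := pk_lt (π := π) k (i := 0) (by norm_num)
  have hp2 : ρ8 (pk π k 0) ≠ pk π k 0 := by
    intro h
    rw [← hkr 0 (by norm_num)] at h
    have := pk_inj (rho_facts.2 0 (by norm_num)) (by norm_num) h
    revert this; decide +kernel
  have hex : ∀ p < 8, ρ8 p ≠ p → ∃ i < 2, ∃ j < 3,
      actw ((if i = 1 then wu else []) ++ (List.replicate j [4, 1]).flatten) 0 = p := by
    decide +kernel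
  obtain ⟨i, hi, j, hj, hij⟩ := hex _ hp hp2
  have hwl : ∀ i < 2, ∀ j < 3, ∀ l ∈ ((if i = 1 then wu else []) ++
      (List.replicate j [4, 1]).flatten), l < 13 := by decide
  rw [← D.act (hwl i hi j hj) (by norm_num)] at hij
  have hE : ∀ i < 2, ∀ j < 3, (((if i = 1 then wu else []) ++
      (List.replicate j [4, 1]).flatten).map L).prod = ((wu.map L).prod) ^ i * (L 4 * L 1) ^ j := by
    intro i hi j hj
    interval_cases i <;> interval_cases j <;>
      simp [List.map_append, List.prod_append, pow_succ, mul_assoc]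
  rw [hE i hi j hj] at hij
  set E := ((wu.map L).prod) ^ i * (L 4 * L 1) ^ j with hEdef
  have hEu : E * (wu.map L).prod = (wu.map L).prod * E := by
    have h1 : Commute ((wu.map L).prod ^ i) (wu.map L).prod := (Commute.refl _).pow_left i
    have h2 : Commute ((L 4 * L 1) ^ j) (wu.map L).prod :=
      (show Commute (L 4 * L 1) (wu.map L).prod from huρ.symm).pow_left j
    exact h1.mul_left h2
  have hEρ : E * (L 4 * L 1) = L 4 * L 1 * E := by
    have h1 : Commute ((wu.map L).prod ^ i) (L 4 * L 1) :=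
      (show Commute (wu.map L).prod (L 4 * L 1) from huρ).pow_left i
    have h2 : Commute ((L 4 * L 1) ^ j) (L 4 * L 1) := (Commute.refl _).pow_left j
    exact h1.mul_left h2
  -- `t = E⁻¹ k`
  obtain ⟨t, ht⟩ : ∃ t, t = E⁻¹ * k := ⟨_, rfl⟩
  have hkt : k = E * t := by rw [ht, mul_inv_cancel_left]
  have htu : t * (wu.map L).prod = (wu.map L).prod * t := by
    have h1 : Commute E⁻¹ (wu.map L).prod := (show Commute E _ from hEu).inv_left
    rw [ht]
    exact h1.mul_left hk
  have htρ : t * (L 4 * L 1) = L 4 * L 1 * t := by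
    have h1 : Commute E⁻¹ (L 4 * L 1) := (show Commute E _ from hEρ).inv_left
    rw [ht]
    exact h1.mul_left hr
  have ht0 : pk π t 0 = 0 := by
    have h1 : pk π E 0 = pk π E (pk π t 0) := by rw [hij, ← pk_mul _ _ (by norm_num), ← hkt]
    exact (pk_inj (by norm_num) (pk_lt t (by norm_num)) h1).symm
  have htr : ∀ i < 8, pk π t (ρ8 i) = ρ8 (pk π t i) := by
    intro i hi
    rw [← D.pk_rho hi, ← pk_mul _ _ hi, htρ, pk_mul _ _ hi, D.pk_rho (pk_lt t hi)]
  have r0 : ρ8 0 = 2 := by decide +kernel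
  have r2 : ρ8 2 = 4 := by decide +kernel
  have ht2 : pk π t 2 = 2 := by
    have := htr 0 (by norm_num)
    rwa [ht0, r0] at this
  have ht4 : pk π t 4 = 4 := by
    have := htr 2 (by norm_num)
    rwa [ht2, r2] at this
  have ht1 : pk π t 1 = 1 := by
    have := D.pk_comm_u htu (i := 0) (by norm_num)
    rw [ht0] at this; exact this
  have ht3 : pk π t 3 = 3 := by
    have := D.pk_comm_u htu (i := 2) (by norm_num)
    rw [ht2] at this; exact this
  have ht5 : pk π t 5 = 5 := by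
    have := D.pk_comm_u htu (i := 4) (by norm_num)
    rw [ht4] at this; exact this
  have ht6 : pk π t 6 = 6 := by
    by_contra h6
    have hl := pk_lt (π := π) t (i := 6) (by norm_num)
    have h7 : pk π t 6 = 7 := by
      have n0 : pk π t 6 ≠ 0 := fun h => by
        rw [← ht0] at h; exact absurd (pk_inj (by norm_num) (by norm_num) h) (by norm_num)
      have n1 : pk π t 6 ≠ 1 := fun h => by
        rw [← ht1] at h; exact absurd (pk_inj (by norm_num) (by norm_num) h) (by norm_num)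
      have n2 : pk π t 6 ≠ 2 := fun h => by
        rw [← ht2] at h; exact absurd (pk_inj (by norm_num) (by norm_num) h) (by norm_num)
      have n3 : pk π t 6 ≠ 3 := fun h => by
        rw [← ht3] at h; exact absurd (pk_inj (by norm_num) (by norm_num) h) (by norm_num)
      have n4 : pk π t 6 ≠ 4 := fun h => by
        rw [← ht4] at h; exact absurd (pk_inj (by norm_num) (by norm_num) h) (by norm_num)
      have n5 : pk π t 6 ≠ 5 := fun h => by
        rw [← ht5] at h; exact absurd (pk_inj (by norm_num) (by norm_num) h) (by norm_num)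
      omega
    have h77 : pk π t 7 = 6 := by
      have := D.pk_comm_u htu (i := 6) (by norm_num)
      rw [h7] at this; exact this
    have hsw : (π t : Perm (Fin 8)) = swap 6 7 := by
      refine Equiv.ext fun i => Fin.ext ?_
      rw [← pk_fin]
      fin_cases i
      · exact ht0
      · exact ht1
      · exact ht2
      · exact ht3
      · exact ht4
      · exact ht5
      · exact h7
      · exact h77
    have h8 := (π t).2
    rw [Perm.mem_alternatingGroup, hsw, Perm.sign_swap (by decide)] at h8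
    exact absurd h8 (by decide)
  have ht7 : pk π t 7 = 7 := by
    have := D.pk_comm_u htu (i := 6) (by norm_num)
    rw [ht6] at this; exact this
  have hπt : π t = 1 := by
    rw [← map_one π]
    refine pk_ext fun i hi => ?_
    rw [pk_one]
    interval_cases i
    · exact ht0
    · exact ht1
    · exact ht2
    · exact ht3
    · exact ht4
    · exact ht5
    · exact ht6
    · exact ht7
  rcases (D.cover.ker t).1 hπt with h | h
  · refine ⟨0, by norm_num, i, hi, j, hj, ?_⟩
    rw [hkt, h, mul_one, pow_zero, one_mul]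
  · refine ⟨1, by norm_num, i, hi, j, hj, ?_⟩
    rw [hkt, h, pow_one, D.z6, D.cover.z_comm, mul_assoc]

theorem sylow {k : C} (hk : k * (wu.map L).prod = (wu.map L).prod * k) (hk3 : k ^ 3 = 1)
    (h1 : k ≠ 1) : ∃ h, h * (wu.map L).prod = (wu.map L).prod * h ∧
      (h * k * h⁻¹ = L 4 * L 1 ∨ h * k * h⁻¹ = (L 4 * L 1)⁻¹) := by
  set f := F (pk π k 0) (pk π k 2) (pk π k 4) (pk π k 6) with hf
  have hF : ∀ i < 8, f i = pk π k i := fun i hi => (D.pk_eq_F hk hi).symm
  have hlt : ∀ i < 8, pk π k i < 8 := fun i hi => pk_lt k hi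
  have hT : tThree f = true := by
    rw [tThree, Bool.and_eq_true]
    constructor
    · rw [allb_iff]
      intro i hi
      rw [Nat.beq_eq, hF i hi, hF _ (hlt i hi), hF _ (hlt _ (hlt i hi)), ← pk_mul _ _ hi,
        ← pk_mul _ _ hi, show k * (k * k) = k ^ 3 by rw [pow_succ', pow_two], hk3, pk_one]
    · by_contra hcon
      have h2 : ∀ i < 8, pk π k i = i := by
        intro i hi
        by_contra h3
        apply hcon
        rw [anyb_iff]
        refine ⟨i, hi, ?_⟩
        rw [not_beq, hF i hi]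
        exact h3
      have h3 : π k = 1 := by
        rw [← map_one π]
        exact pk_ext fun i hi => by rw [h2 i hi, pk_one]
      rcases (D.cover.ker k).1 h3 with h4 | h4
      · exact h1 h4
      · rw [h4, D.cover.z_pow_three] at hk3
        exact D.cover.z_ne hk3
  have h3 := chk_three
  rw [allb_iff] at h3
  have h3 := h3 _ (hlt 0 (by norm_num))
  rw [allb_iff] at h3
  have h3 := h3 _ (hlt 2 (by norm_num))
  rw [allb_iff] at h3
  have h3 := h3 _ (hlt 4 (by norm_num))
  rw [allb_iff] at h3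
  have h3 := h3 _ (hlt 6 (by norm_num))
  rw [← hf, hT, Bool.not_true, Bool.false_or, anyb_iff] at h3
  obtain ⟨p', hp', h3⟩ := h3
  rw [anyb_iff] at h3
  obtain ⟨s', hs', h3⟩ := h3
  set S := F p' (f p') (f (f p')) s' with hS
  rw [tConj, Bool.and_eq_true, allb_iff, allb_iff] at h3
  obtain ⟨hinj, hSρ⟩ := h3
  have hSlt : ∀ i < 8, S i < 8 := by
    intro i hi
    have := hSρ i hi
    rw [Bool.and_eq_true, Nat.blt_eq] at this
    exact this.2
  have hSρ' : ∀ i < 8, S (ρ8 i) = f (S i) := by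
    intro i hi
    have := hSρ i hi
    rw [Bool.and_eq_true, Nat.beq_eq] at this
    exact this.1
  have hSinj : Function.Injective (fun i : Fin 8 => (⟨S i, hSlt i i.2⟩ : Fin 8)) := by
    intro i j hij
    have h4 := hinj i i.2
    rw [allb_iff] at h4
    have h5 := h4 j j.2
    rw [Bool.or_eq_true, Nat.beq_eq, not_beq] at h5
    rcases h5 with h5 | h5
    · exact Fin.ext h5
    · exact absurd (congrArg Fin.val hij) h5
  let σ : Perm (Fin 8) := Equiv.ofBijective _ (Finite.injective_iff_bijective.1 hSinj)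
  have hσ : ∀ i : Fin 8, ((σ i : Fin 8) : ℕ) = S i := fun i => rfl
  have hSμ : ∀ i < 8, S (Nat.xor i 1) = Nat.xor (S i) 1 := by
    intro i hi
    have hxx : ∀ n < 8, Nat.xor (Nat.xor n 1) 1 = n := by decide
    have e0 := hxx _ (hSlt 0 (by norm_num))
    have e2 := hxx _ (hSlt 2 (by norm_num))
    have e4 := hxx _ (hSlt 4 (by norm_num))
    have e6 := hxx _ (hSlt 6 (by norm_num))
    interval_cases i
    · rfl
    · exact e0.symm
    · rfl
    · exact e2.symm
    · rfl
    · exact e4.symm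
    · rfl
    · exact e6.symm
  -- an even permutation
  obtain ⟨σ', hσρ, hσμ, hev⟩ : ∃ σ' : Perm (Fin 8),
      (∀ (i : ℕ) (hi : i < 8), ((σ' ⟨ρ8 i, rho_facts.2 i hi⟩ : Fin 8) : ℕ) = f (σ' ⟨i, hi⟩)) ∧
      (∀ (i : ℕ) (hi : i < 8) (hj : Nat.xor i 1 < 8),
        ((σ' ⟨Nat.xor i 1, hj⟩ : Fin 8) : ℕ) = Nat.xor (σ' ⟨i, hi⟩) 1) ∧
      σ' ∈ alternatingGroup (Fin 8) := by
    rcases Int.units_eq_one_or (Perm.sign σ) with h | h
    · refine ⟨σ, fun i hi => ?_, fun i hi hj => ?_, Perm.mem_alternatingGroup.2 h⟩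
      · rw [hσ, hσ]; exact hSρ' i hi
      · rw [hσ, hσ]; exact hSμ i hi
    · refine ⟨σ * swap 6 7, fun i hi => ?_, fun i hi hj => ?_, ?_⟩
      · rw [Perm.mul_apply, Perm.mul_apply, hσ, hσ]
        have h5 : ∀ (i : ℕ) (hi : i < 8),
            ((swap (6 : Fin 8) 7 ⟨ρ8 i, rho_facts.2 i hi⟩ : Fin 8) : ℕ) =
              ρ8 ((swap (6 : Fin 8) 7 ⟨i, hi⟩ : Fin 8) : ℕ) := by decide +kernel
        rw [h5 i hi]
        exact hSρ' _ (Fin.is_lt _)
      · rw [Perm.mul_apply, Perm.mul_apply, hσ, hσ]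
        have h5 : ∀ (i : ℕ) (hi : i < 8) (hj : Nat.xor i 1 < 8),
            ((swap (6 : Fin 8) 7 ⟨Nat.xor i 1, hj⟩ : Fin 8) : ℕ) =
              Nat.xor ((swap (6 : Fin 8) 7 ⟨i, hi⟩ : Fin 8) : ℕ) 1 := by
          have h6 : ∀ i : Fin 8, ((swap (6 : Fin 8) 7 i : Fin 8) : ℕ) =
              (fun n => if n = 6 then 7 else if n = 7 then 6 else n) (i : ℕ) := by decide
          have h7 : ∀ i < 8, (fun n => if n = 6 then 7 else if n = 7 then 6 else n) (Nat.xor i 1) =
              Nat.xor ((fun n => if n = 6 then 7 else if n = 7 then 6 else n) i) 1 := by decide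
          intro i hi hj
          rw [h6, h6]
          exact h7 i hi
        rw [h5 i hi hj]
        exact hSμ _ (Fin.is_lt _)
      · rw [Perm.mem_alternatingGroup, map_mul, h, Perm.sign_swap (by decide)]
        norm_num
  obtain ⟨h', hh'⟩ := D.cover.surj ⟨σ', hev⟩
  have hh : ∀ i (hi : i < 8), pk π h' i = ((σ' ⟨i, hi⟩ : Fin 8) : ℕ) := by
    intro i hi
    rw [pk, dif_pos hi, hh']
  -- `h'⁻¹ k h' = ρ`
  have hc : h'⁻¹ * k * h' = L 4 * L 1 := by
    refine D.cover.eq_of_cube ?_ D.rho_cube ?_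
    · have : (h'⁻¹ * k * h') ^ 3 = h'⁻¹ * k ^ 3 * h' := by
        simp only [pow_succ, pow_zero, one_mul]; group
      rw [this, hk3, mul_one, inv_mul_cancel]
    · have h5 : π (k * h') = π (h' * (L 4 * L 1)) := by
        refine pk_ext fun i hi => ?_
        rw [pk_mul _ _ hi, pk_mul _ _ hi, D.pk_rho hi, hh i hi, hh _ (rho_facts.2 i hi),
          hσρ i hi, hF _ (Fin.is_lt _)]
      have h6 : h'⁻¹ * k * h' = h'⁻¹ * (k * h') := by group
      rw [h6, map_mul, h5, ← map_mul, inv_mul_cancel_left]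
  have hcu : π (h'⁻¹ * (wu.map L).prod * h') = π (wu.map L).prod := by
    have h5 : π ((wu.map L).prod * h') = π (h' * (wu.map L).prod) := by
      refine pk_ext fun i hi => ?_
      have hx : Nat.xor i 1 < 8 := by interval_cases i <;> decide
      rw [pk_mul _ _ hi, pk_mul _ _ hi, D.act (by decide) hi, act_u i hi, hh i hi, hh _ hx,
        D.act (by decide) (Fin.is_lt _), act_u _ (Fin.is_lt _), hσμ i hi hx]
    have h6 : h'⁻¹ * (wu.map L).prod * h' = h'⁻¹ * ((wu.map L).prod * h') := by group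
    rw [h6, map_mul, h5, ← map_mul, inv_mul_cancel_left]
  rcases D.cover.eq_or_of_map_eq hcu with h5 | h5
  · refine ⟨h'⁻¹, ?_, Or.inl ?_⟩
    · calc h'⁻¹ * (wu.map L).prod = (h'⁻¹ * (wu.map L).prod * h') * h'⁻¹ := by
            rw [mul_inv_cancel_right]
        _ = (wu.map L).prod * h'⁻¹ := by rw [h5]
    · rw [inv_inv, hc]
  · have hb := D.sq (k := 1) (by norm_num)
    have hbi : (L 1)⁻¹ = L 1 := inv_eq_of_mul_eq_one_left hb
    refine ⟨L 1 * h'⁻¹, ?_, Or.inr ?_⟩
    · have e1 : L 1 * (wu.map L).prod = (wu.map L).prod * z * L 1 := by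
        calc L 1 * (wu.map L).prod = L 1 * (wu.map L).prod * L 1 * L 1 := by
              rw [mul_assoc _ (L 1) (L 1), hb, mul_one]
          _ = _ := by rw [D.bu_u]
      have e2 : h'⁻¹ * (wu.map L).prod = (wu.map L).prod * z * h'⁻¹ := by
        calc h'⁻¹ * (wu.map L).prod = (h'⁻¹ * (wu.map L).prod * h') * h'⁻¹ := by
              rw [mul_inv_cancel_right]
          _ = _ := by rw [h5]
      calc L 1 * h'⁻¹ * (wu.map L).prod = L 1 * (wu.map L).prod * (z * h'⁻¹) := by
            rw [mul_assoc, e2]; group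
        _ = (wu.map L).prod * (z * L 1 * z) * h'⁻¹ := by rw [e1]; group
        _ = (wu.map L).prod * (L 1 * h'⁻¹) := by
          rw [← D.cover.z_comm, mul_assoc (L 1), D.cover.z_mul, mul_one, mul_assoc]
    · rw [D.rho_inv, mul_inv_rev, inv_inv, hbi]
      calc L 1 * h'⁻¹ * k * (h' * L 1) = L 1 * (h'⁻¹ * k * h') * L 1 := by group
        _ = L 1 * L 4 * (L 1 * L 1) := by rw [hc]; group
        _ = L 1 * L 4 := by rw [hb, mul_one]

theorem facts : Facts z (L 0) (L 1) (L 2) (L 3) (L 4) (L 5) ((wu.map L).prod) := by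
  have hfam : (L 1 * L 0 * L 1 * L 2 * (L 1 * L 0 * L 1 * L 2)) = (wu.map L).prod :=
    prod_wu.symm
  have hL : ∀ v : List ℕ, (∀ k ∈ v, k < 7) →
      v.map (letter (L 0) (L 1) (L 2) (L 3) (L 4) (L 5) z) = v.map L := by
    intro v hv
    refine List.map_congr_left fun k hk => ?_
    have := hv k hk
    interval_cases k
    · rfl
    · rfl
    · rfl
    · rfl
    · rfl
    · rfl
    · exact D.z6.symm
  have h1 : ∀ i, four z (wu.map L).prod (L 2) (L 1 * L 2 * L 1) i = ((w1 i).map L).prod := by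
    intro i
    rw [prod_w1, hfam, D.z6]
  have h2 : ∀ i, four z (wu.map L).prod (L 0) (L 1 * L 0 * L 1) i = ((w2 i).map L).prod := by
    intro i
    rw [prod_w2, hfam, D.z6]
  refine ⟨D.cover.z_ne, D.cover.z_comm, fun v v' hv hv' hc => ?_, hfam.symm,
    fun s hs h1 hz => D.conj_u hs h1 hz, fun k hk hk2 => ?_, fun i hi j hj h => ?_,
    fun i hi j hj h => ?_, fun k hu hc hc' => ?_, fun k hu hc hc' => ?_, fun k hk hr => ?_,
    fun k hk hk3 hk1 => D.sylow hk hk3 hk1, D.mem_closure⟩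
  · rw [hL v hv, hL v' hv']
    exact D.eq v v' (fun k hk => (hv k hk).trans (by norm_num))
      (fun k hk => (hv' k hk).trans (by norm_num)) hc
  · simp only [h1, h2]
    exact D.invol hk hk2
  · rw [h1, h1] at h
    exact D.inj_fam w1_lt chk_w1z hi hj h
  · rw [h2, h2] at h
    exact D.inj_fam w2_lt chk_w2z hi hj h
  · simp only [h1]
    refine D.cent_fam w1_lt act_reg1 act_com1 chk_w1zz' fun l hl => ?_
    rw [← h1]
    exact four_comm (D.cover.z_comm k) hu hc hc' l
  · simp only [h2]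
    refine D.cent_fam w2_lt act_reg2 act_com2 chk_w2zz' fun l hl => ?_
    rw [← h2]
    exact four_comm (D.cover.z_comm k) hu hc hc' l
  · obtain ⟨e, he, i, hi, j, hj, h⟩ := D.cent_rho hk hr
    rw [D.z6] at h
    refine ⟨z ^ e * (wu.map L).prod ^ i, ?_, j, hj, h⟩
    interval_cases e <;> interval_cases i <;> simp

end LData

end proof

/-- **Structure of the double cover of `A_8`.** -/
theorem exists_facts {C : Type*} [Group C] {π : C →* alternatingGroup (Fin 8)} {z : C}
    (h : IsCover π z) : ∃ a b c x y w u : C, Facts z a b c x y w u := by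
  obtain ⟨L, D⟩ := exists_ldata h
  exact ⟨_, _, _, _, _, _, _, D.facts⟩

end Cfsg.Agent.McLType.Facts8
end

-- part: McLType/Local
section
/-!
# Local analysis of groups with an involution centralizer `2.A_8`

`exists_d`: if the involution `z` with centralizer `2.A_8` is not isolated, there is an element `d`
of order three in the normalizer of the four-group `⟨z, u⟩` with known action.
-/

set_option autoImplicit false

namespace Cfsg.Agent.McLType.Local

open Cfsg.Agent.SporadicRecognition.AltCover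
open Model8 Facts8 Subgroup

/-- The facts on the centralizer of `z` used in the local analysis. -/
structure GFacts {G : Type*} [Group G] (z a b c x y w u : G) : Prop where
  z_ne : z ≠ 1
  words : ∀ v v' : List ℕ, (∀ k ∈ v, k < 7) → (∀ k ∈ v', k < 7) → chk v v' = true →
    (v.map (letter a b c x y w z)).prod = (v'.map (letter a b c x y w z)).prod
  u_def : u = b * a * b * c * (b * a * b * c)
  conj_u : ∀ s, s * z = z * s → s * s = 1 → s ≠ 1 → s ≠ z → ∃ k, k * z = z * k ∧ k * s * k⁻¹ = u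
  invol : ∀ k, k * z = z * k → k * u = u * k → k * k = 1 →
    (∃ i < 16, k = four z u c (b * c * b) i) ∨ (∃ i < 16, k = four z u a (b * a * b) i)
  inj₁ : ∀ i < 16, ∀ j < 16, four z u c (b * c * b) i = four z u c (b * c * b) j → i = j
  inj₂ : ∀ i < 16, ∀ j < 16, four z u a (b * a * b) i = four z u a (b * a * b) j → i = j
  cent₁ : ∀ k, k * z = z * k → k * u = u * k → k * c = c * k →
    k * (b * c * b) = b * c * b * k → ∃ i < 16, k = four z u c (b * c * b) i
  cent₂ : ∀ k, k * z = z * k → k * u = u * k → k * a = a * k →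
    k * (b * a * b) = b * a * b * k → ∃ i < 16, k = four z u a (b * a * b) i
  cent_rho : ∀ k, k * z = z * k → k * u = u * k → k * (y * b) = y * b * k →
    ∃ v, (v = 1 ∨ v = z ∨ v = u ∨ v = z * u) ∧ ∃ i < 3, k = v * (y * b) ^ i
  sylow : ∀ k, k * z = z * k → k * u = u * k → k ^ 3 = 1 → k ≠ 1 →
    ∃ h, h * z = z * h ∧ h * u = u * h ∧ (h * k * h⁻¹ = y * b ∨ h * k * h⁻¹ = (y * b)⁻¹)
  gen : closure {a, b, c, x, y, w} = centralizer {z}

theorem mem_cent {G : Type*} [Group G] {z k : G} : k ∈ centralizer ({z} : Set G) ↔ k * z = z * k :=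
  mem_centralizer_singleton_iff

theorem gfacts_of_facts {G : Type*} [Group G] {t : G} {a b c x y w u : centralizer ({t} : Set G)}
    (F : Facts (⟨t, mem_cent.2 rfl⟩ : centralizer ({t} : Set G)) a b c x y w u) :
    GFacts t (a : G) (b : G) (c : G) (x : G) (y : G) (w : G) (u : G) := by
  set z : centralizer ({t} : Set G) := ⟨t, mem_cent.2 rfl⟩ with hz
  have hf : ∀ (e₀ e₁ e₂ e₃ : centralizer ({t} : Set G)) (i : ℕ),
      ((four e₀ e₁ e₂ e₃ i : centralizer ({t} : Set G)) : G) =
        four (e₀ : G) (e₁ : G) (e₂ : G) (e₃ : G) i := fun e₀ e₁ e₂ e₃ i =>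
    map_four (centralizer ({t} : Set G)).subtype e₀ e₁ e₂ e₃ i
  have f1 : ∀ i, ((four z u c (b * c * b) i : centralizer ({t} : Set G)) : G) =
      four t (u : G) (c : G) ((b : G) * c * b) i := fun i => hf _ _ _ _ i
  have f2 : ∀ i, ((four z u a (b * a * b) i : centralizer ({t} : Set G)) : G) =
      four t (u : G) (a : G) ((b : G) * a * b) i := fun i => hf _ _ _ _ i
  have hw : ∀ v : List ℕ, (((v.map (letter a b c x y w z)).prod : centralizer ({t} : Set G)) : G) =
      (v.map (letter (a : G) (b : G) (c : G) (x : G) (y : G) (w : G) t)).prod := by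
    intro v
    have h1 : ∀ k, ((letter a b c x y w z k : centralizer ({t} : Set G)) : G) =
        letter (a : G) (b : G) (c : G) (x : G) (y : G) (w : G) t k := by
      intro k
      match k with
      | 0 => rfl
      | 1 => rfl
      | 2 => rfl
      | 3 => rfl
      | 4 => rfl
      | 5 => rfl
      | _ + 6 => rfl
    induction v with
    | nil => rfl
    | cons k v ih =>
      rw [List.map_cons, List.map_cons, List.prod_cons, List.prod_cons, Subgroup.coe_mul, ih, h1]
  refine ⟨fun h => F.z_ne (Subtype.ext h), fun v v' hv hv' hc => ?_, ?_, fun s hs h2 h1 h3 => ?_,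
    fun k hk hu h2 => ?_, fun i hi j hj h => ?_, fun i hi j hj h => ?_, fun k hk h1 h2 h3 => ?_,
    fun k hk h1 h2 h3 => ?_, fun k hk h1 h2 => ?_, fun k hk h1 h2 h3 => ?_, ?_⟩
  · rw [← hw, ← hw, F.words v v' hv hv' hc]
  · exact congrArg Subtype.val F.u_def
  · obtain ⟨k, hk⟩ := F.conj_u ⟨s, mem_cent.2 hs⟩ (Subtype.ext h2)
      (fun h => h1 (congrArg Subtype.val h)) (fun h => h3 (congrArg Subtype.val h))
    exact ⟨k, mem_cent.1 k.2, congrArg Subtype.val hk⟩
  · rcases F.invol ⟨k, mem_cent.2 hk⟩ (Subtype.ext hu) (Subtype.ext h2) with ⟨i, hi, h⟩ | ⟨i, hi, h⟩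
    · exact Or.inl ⟨i, hi, by rw [← f1, ← h]⟩
    · exact Or.inr ⟨i, hi, by rw [← f2, ← h]⟩
  · rw [← f1, ← f1] at h
    exact F.inj₁ i hi j hj (Subtype.ext h)
  · rw [← f2, ← f2] at h
    exact F.inj₂ i hi j hj (Subtype.ext h)
  · obtain ⟨i, hi, h⟩ := F.cent₁ ⟨k, mem_cent.2 hk⟩ (Subtype.ext h1) (Subtype.ext h2)
      (Subtype.ext h3)
    exact ⟨i, hi, by rw [← f1, ← h]⟩
  · obtain ⟨i, hi, h⟩ := F.cent₂ ⟨k, mem_cent.2 hk⟩ (Subtype.ext h1) (Subtype.ext h2)
      (Subtype.ext h3)
    exact ⟨i, hi, by rw [← f2, ← h]⟩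
  · obtain ⟨v, hv, i, hi, h⟩ := F.cent_rho ⟨k, mem_cent.2 hk⟩ (Subtype.ext h1) (Subtype.ext h2)
    refine ⟨v, ?_, i, hi, congrArg Subtype.val h⟩
    rcases hv with rfl | rfl | rfl | rfl
    · exact Or.inl rfl
    · exact Or.inr (Or.inl rfl)
    · exact Or.inr (Or.inr (Or.inl rfl))
    · exact Or.inr (Or.inr (Or.inr rfl))
  · obtain ⟨h, hu, h4⟩ := F.sylow ⟨k, mem_cent.2 hk⟩ (Subtype.ext h1) (Subtype.ext h2)
      (fun h => h3 (congrArg Subtype.val h))
    refine ⟨h, mem_cent.1 h.2, congrArg Subtype.val hu, ?_⟩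
    rcases h4 with h4 | h4
    · exact Or.inl (congrArg Subtype.val h4)
    · exact Or.inr (congrArg Subtype.val h4)
  · have h1 := congrArg (Subgroup.map (centralizer ({t} : Set G)).subtype) F.gen
    rw [MonoidHom.map_closure, ← MonoidHom.range_eq_map, Subgroup.range_subtype] at h1
    refine Eq.trans ?_ h1
    congr 1
    simp [Set.image_insert_eq]

/-- The facts on the centralizer of an involution which is a double cover of `A_8`. -/
theorem exists_gfacts {G : Type*} [Group G] {t : G}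
    {π : centralizer ({t} : Set G) →* alternatingGroup (Fin 8)}
    (h : IsCover π (⟨t, mem_cent.2 rfl⟩ : centralizer ({t} : Set G))) :
    ∃ a b c x y w u : G, GFacts t a b c x y w u := by
  obtain ⟨a, b, c, x, y, w, u, F⟩ := exists_facts h
  exact ⟨_, _, _, _, _, _, _, gfacts_of_facts F⟩


section cj

variable {G : Type*} [Group G]

/-- conjugation -/
def cj (h x : G) : G := h * x * h⁻¹

theorem cj_mul_left (h k x : G) : cj (h * k) x = cj h (cj k x) := by
  simp only [cj, mul_inv_rev]; group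

theorem cj_mul (h x y : G) : cj h (x * y) = cj h x * cj h y := by
  simp only [cj]; group

theorem cj_one (h : G) : cj h 1 = 1 := by simp [cj]

theorem one_cj (x : G) : cj 1 x = x := by simp [cj]

theorem cj_inv (h x : G) : cj h x⁻¹ = (cj h x)⁻¹ := by
  simp only [cj, mul_inv_rev, inv_inv, mul_assoc]

theorem cj_pow (h x : G) (n : ℕ) : cj h (x ^ n) = cj h x ^ n := by
  simp only [cj, conj_pow]

theorem cj_inj {h x y : G} : cj h x = cj h y ↔ x = y := by
  simp only [cj, mul_left_inj, mul_right_inj]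

theorem cj_eq_self {h x : G} : cj h x = x ↔ h * x = x * h := by
  rw [cj, mul_inv_eq_iff_eq_mul]

theorem cj_eq {h x y : G} : cj h x = y ↔ h * x = y * h := by
  rw [cj, mul_inv_eq_iff_eq_mul]

theorem cj_comm {h x y : G} (hxy : x * y = y * x) : cj h x * cj h y = cj h y * cj h x := by
  rw [← cj_mul, hxy, cj_mul]

end cj

section four

variable {G : Type*} [Group G]

/-- four commuting involutions -/
structure Four (e₀ e₁ e₂ e₃ : G) : Prop where
  s0 : e₀ * e₀ = 1
  s1 : e₁ * e₁ = 1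
  s2 : e₂ * e₂ = 1
  s3 : e₃ * e₃ = 1
  c01 : Commute e₀ e₁
  c02 : Commute e₀ e₂
  c03 : Commute e₀ e₃
  c12 : Commute e₁ e₂
  c13 : Commute e₁ e₃
  c23 : Commute e₂ e₃

theorem ite_mul_ite {e : G} (h : e * e = 1) (p q : Bool) :
    (if p then e else 1) * (if q then e else 1) = if (p ^^ q) then e else 1 := by
  cases p <;> cases q <;> simp [h]

theorem commute_ite {e f : G} (h : Commute e f) (p q : Bool) :
    Commute (if p then e else 1) (if q then f else 1) := by
  cases p <;> cases q <;> simp [h]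

theorem Four.mul {e₀ e₁ e₂ e₃ : G} (F : Four e₀ e₁ e₂ e₃) (i j : ℕ) :
    four e₀ e₁ e₂ e₃ i * four e₀ e₁ e₂ e₃ j = four e₀ e₁ e₂ e₃ (i ^^^ j) := by
  simp only [four, Nat.testBit_xor]
  rw [← ite_mul_ite F.s0, ← ite_mul_ite F.s1, ← ite_mul_ite F.s2, ← ite_mul_ite F.s3]
  generalize i.testBit 0 = p0
  generalize i.testBit 1 = p1
  generalize i.testBit 2 = p2
  generalize i.testBit 3 = p3
  generalize j.testBit 0 = q0
  generalize j.testBit 1 = q1
  generalize j.testBit 2 = q2
  generalize j.testBit 3 = q3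
  have h01 := (commute_ite F.c01 q0 p1).eq
  have h02 := (commute_ite F.c02 q0 p2).eq
  have h03 := (commute_ite F.c03 q0 p3).eq
  have h12 := (commute_ite F.c12 q1 p2).eq
  have h13 := (commute_ite F.c13 q1 p3).eq
  have h23 := (commute_ite F.c23 q2 p3).eq
  generalize (if p0 then e₀ else 1) = A0 at *
  generalize (if p1 then e₁ else 1) = A1 at *
  generalize (if p2 then e₂ else 1) = A2 at *
  generalize (if p3 then e₃ else 1) = A3 at *
  generalize (if q0 then e₀ else 1) = B0 at *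
  generalize (if q1 then e₁ else 1) = B1 at *
  generalize (if q2 then e₂ else 1) = B2 at *
  generalize (if q3 then e₃ else 1) = B3 at *
  calc A0 * A1 * A2 * A3 * (B0 * B1 * B2 * B3)
      = A0 * A1 * A2 * (A3 * B0) * B1 * B2 * B3 := by group
    _ = A0 * A1 * (A2 * B0) * A3 * B1 * B2 * B3 := by rw [← h03]; group
    _ = A0 * (A1 * B0) * A2 * A3 * B1 * B2 * B3 := by rw [← h02]; group
    _ = A0 * B0 * A1 * A2 * (A3 * B1) * B2 * B3 := by rw [← h01]; group
    _ = A0 * B0 * A1 * (A2 * B1) * A3 * B2 * B3 := by rw [← h13]; group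
    _ = A0 * B0 * A1 * B1 * A2 * (A3 * B2) * B3 := by rw [← h12]; group
    _ = A0 * B0 * (A1 * B1) * (A2 * B2) * (A3 * B3) := by rw [← h23]; group

theorem Four.lt_xor : ∀ i < 16, ∀ j < 16, i ^^^ j < 16 := by decide

/-- the subgroup generated by four commuting involutions -/
def Four.sub {e₀ e₁ e₂ e₃ : G} (F : Four e₀ e₁ e₂ e₃) : Subgroup G where
  carrier := {g | ∃ i < 16, g = four e₀ e₁ e₂ e₃ i}
  one_mem' := ⟨0, by norm_num, by simp [four]⟩
  mul_mem' := by
    rintro _ _ ⟨i, hi, rfl⟩ ⟨j, hj, rfl⟩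
    exact ⟨i ^^^ j, Four.lt_xor i hi j hj, F.mul i j⟩
  inv_mem' := by
    rintro _ ⟨i, hi, rfl⟩
    refine ⟨i, hi, ?_⟩
    rw [inv_eq_iff_mul_eq_one, F.mul, Nat.xor_self]
    simp [four]

theorem Four.mem_sub {e₀ e₁ e₂ e₃ : G} (F : Four e₀ e₁ e₂ e₃) {g : G} :
    g ∈ F.sub ↔ ∃ i < 16, g = four e₀ e₁ e₂ e₃ i := Iff.rfl

theorem cj_four (h e₀ e₁ e₂ e₃ : G) (i : ℕ) :
    cj h (four e₀ e₁ e₂ e₃ i) = four (cj h e₀) (cj h e₁) (cj h e₂) (cj h e₃) i := by
  simp only [four, cj_mul, apply_ite (cj h), cj_one]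

theorem Four.comm {e₀ e₁ e₂ e₃ : G} (F : Four e₀ e₁ e₂ e₃) {g g' : G} (hg : g ∈ F.sub)
    (hg' : g' ∈ F.sub) : g * g' = g' * g := by
  obtain ⟨i, -, rfl⟩ := hg
  obtain ⟨j, -, rfl⟩ := hg'
  rw [F.mul, F.mul, Nat.xor_comm]

theorem Four.sq {e₀ e₁ e₂ e₃ : G} (F : Four e₀ e₁ e₂ e₃) {g : G} (hg : g ∈ F.sub) :
    g * g = 1 := by
  obtain ⟨i, -, rfl⟩ := hg
  rw [F.mul, Nat.xor_self]
  simp [four]

end four

namespace GFacts

variable {G : Type*} [Group G] {z a b c x y w u : G} (F : GFacts z a b c x y w u)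

include F

theorem rel (v v' : List ℕ) (h : ((v.all (fun k => Nat.blt k 7)).and
    ((v'.all (fun k => Nat.blt k 7)).and (chk v v'))) = true) :
    (v.map (letter a b c x y w z)).prod = (v'.map (letter a b c x y w z)).prod := by
  simp only [Bool.and_eq_true, List.all_eq_true, Nat.blt_eq] at h
  exact F.words v v' h.1 h.2.1 h.2.2

theorem zz : z * z = 1 := by
  simpa only [List.map_cons, List.map_nil, List.prod_cons, List.prod_nil, letter, mul_one]
    using F.rel [6, 6] [] (by decide +kernel)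
theorem aa : a * a = 1 := by
  simpa only [List.map_cons, List.map_nil, List.prod_cons, List.prod_nil, letter, mul_one]
    using F.rel [0, 0] [] (by decide +kernel)
theorem bb : b * b = 1 := by
  simpa only [List.map_cons, List.map_nil, List.prod_cons, List.prod_nil, letter, mul_one]
    using F.rel [1, 1] [] (by decide +kernel)
theorem cc : c * c = 1 := by
  simpa only [List.map_cons, List.map_nil, List.prod_cons, List.prod_nil, letter, mul_one]
    using F.rel [2, 2] [] (by decide +kernel)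
theorem yy : y * y = 1 := by
  simpa only [List.map_cons, List.map_nil, List.prod_cons, List.prod_nil, letter, mul_one]
    using F.rel [4, 4] [] (by decide +kernel)
theorem az : a * z = z * a := by
  simpa only [List.map_cons, List.map_nil, List.prod_cons, List.prod_nil, letter, mul_one]
    using F.rel [0, 6] [6, 0] (by decide +kernel)
theorem bz : b * z = z * b := by
  simpa only [List.map_cons, List.map_nil, List.prod_cons, List.prod_nil, letter, mul_one]
    using F.rel [1, 6] [6, 1] (by decide +kernel)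
theorem cz : c * z = z * c := by
  simpa only [List.map_cons, List.map_nil, List.prod_cons, List.prod_nil, letter, mul_one]
    using F.rel [2, 6] [6, 2] (by decide +kernel)
theorem yz : y * z = z * y := by
  simpa only [List.map_cons, List.map_nil, List.prod_cons, List.prod_nil, letter, mul_one]
    using F.rel [4, 6] [6, 4] (by decide +kernel)

theorem uu : u * u = 1 := by
  rw [F.u_def]
  simpa only [List.map_cons, List.map_nil, List.prod_cons, List.prod_nil, letter, mul_one,
    mul_assoc] using F.rel [1, 0, 1, 2, 1, 0, 1, 2, 1, 0, 1, 2, 1, 0, 1, 2] [] (by decide +kernel)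
theorem uz : u * z = z * u := by
  rw [F.u_def]
  simpa only [List.map_cons, List.map_nil, List.prod_cons, List.prod_nil, letter, mul_one,
    mul_assoc] using F.rel [1, 0, 1, 2, 1, 0, 1, 2, 6] [6, 1, 0, 1, 2, 1, 0, 1, 2]
      (by decide +kernel)
theorem ua : u * a = a * u := by
  rw [F.u_def]
  simpa only [List.map_cons, List.map_nil, List.prod_cons, List.prod_nil, letter, mul_one,
    mul_assoc] using F.rel [1, 0, 1, 2, 1, 0, 1, 2, 0] [0, 1, 0, 1, 2, 1, 0, 1, 2]
      (by decide +kernel)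
theorem uc : u * c = c * u := by
  rw [F.u_def]
  simpa only [List.map_cons, List.map_nil, List.prod_cons, List.prod_nil, letter, mul_one,
    mul_assoc] using F.rel [1, 0, 1, 2, 1, 0, 1, 2, 2] [2, 1, 0, 1, 2, 1, 0, 1, 2]
      (by decide +kernel)
theorem ub : b * u = z * u * b := by
  rw [F.u_def]
  simpa only [List.map_cons, List.map_nil, List.prod_cons, List.prod_nil, letter, mul_one,
    mul_assoc] using F.rel [1, 1, 0, 1, 2, 1, 0, 1, 2] [6, 1, 0, 1, 2, 1, 0, 1, 2, 1]
      (by decide +kernel)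
theorem uy : y * u = z * u * y := by
  rw [F.u_def]
  simpa only [List.map_cons, List.map_nil, List.prod_cons, List.prod_nil, letter, mul_one,
    mul_assoc] using F.rel [4, 1, 0, 1, 2, 1, 0, 1, 2] [6, 1, 0, 1, 2, 1, 0, 1, 2, 4]
      (by decide +kernel)
theorem c_c' : c * (b * c * b) = b * c * b * c := by
  simpa only [List.map_cons, List.map_nil, List.prod_cons, List.prod_nil, letter, mul_one,
    mul_assoc] using F.rel [2, 1, 2, 1] [1, 2, 1, 2] (by decide +kernel)
theorem a_a' : a * (b * a * b) = b * a * b * a := by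
  simpa only [List.map_cons, List.map_nil, List.prod_cons, List.prod_nil, letter, mul_one,
    mul_assoc] using F.rel [0, 1, 0, 1] [1, 0, 1, 0] (by decide +kernel)
theorem rho3 : (y * b) ^ 3 = 1 := by
  simpa only [List.map_cons, List.map_nil, List.prod_cons, List.prod_nil, letter, mul_one,
    mul_assoc, pow_succ, pow_zero, one_mul] using F.rel [4, 1, 4, 1, 4, 1] [] (by decide +kernel)
/-- `ρ c = c c' ρ` -/
theorem rho_c : y * b * c = c * (b * c * b) * (y * b) := by
  simpa only [List.map_cons, List.map_nil, List.prod_cons, List.prod_nil, letter, mul_one,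
    mul_assoc] using F.rel [4, 1, 2] [2, 1, 2, 1, 4, 1] (by decide +kernel)
/-- `ρ c' = c ρ` -/
theorem rho_c' : y * b * (b * c * b) = c * (y * b) := by
  simpa only [List.map_cons, List.map_nil, List.prod_cons, List.prod_nil, letter, mul_one,
    mul_assoc] using F.rel [4, 1, 1, 2, 1] [2, 4, 1] (by decide +kernel)
theorem rho_a : y * b * a = a * (b * a * b) * (y * b) := by
  simpa only [List.map_cons, List.map_nil, List.prod_cons, List.prod_nil, letter, mul_one,
    mul_assoc] using F.rel [4, 1, 0] [0, 1, 0, 1, 4, 1] (by decide +kernel)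
theorem rho_a' : y * b * (b * a * b) = a * (y * b) := by
  simpa only [List.map_cons, List.map_nil, List.prod_cons, List.prod_nil, letter, mul_one,
    mul_assoc] using F.rel [4, 1, 1, 0, 1] [0, 4, 1] (by decide +kernel)
theorem ca_sq : c * a * (c * a) = z := by
  simpa only [List.map_cons, List.map_nil, List.prod_cons, List.prod_nil, letter, mul_one,
    mul_assoc] using F.rel [2, 0, 2, 0] [6] (by decide +kernel)
theorem ca'_sq : c * (b * a * b) * (c * (b * a * b)) = u := by
  rw [F.u_def]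
  simpa only [List.map_cons, List.map_nil, List.prod_cons, List.prod_nil, letter, mul_one,
    mul_assoc] using F.rel [2, 1, 0, 1, 2, 1, 0, 1] [1, 0, 1, 2, 1, 0, 1, 2] (by decide +kernel)
theorem caa'_sq : c * (a * (b * a * b)) * (c * (a * (b * a * b))) = z * u := by
  rw [F.u_def]
  simpa only [List.map_cons, List.map_nil, List.prod_cons, List.prod_nil, letter, mul_one,
    mul_assoc] using F.rel [2, 0, 1, 0, 1, 2, 0, 1, 0, 1] [6, 1, 0, 1, 2, 1, 0, 1, 2]
      (by decide +kernel)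

theorem u_ne_one : u ≠ 1 := by
  intro h
  have := F.inj₁ 2 (by norm_num) 0 (by norm_num) (by simp [four, Nat.testBit, h])
  norm_num at this

theorem u_ne_z : u ≠ z := by
  intro h
  have := F.inj₁ 2 (by norm_num) 1 (by norm_num) (by simp [four, Nat.testBit, h])
  norm_num at this

theorem bcb_sq : b * c * b * (b * c * b) = 1 := by
  calc b * c * b * (b * c * b) = b * c * (b * b) * c * b := by group
    _ = b * (c * c) * b := by rw [F.bb]; group
    _ = 1 := by rw [F.cc, mul_one, F.bb]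

theorem bab_sq : b * a * b * (b * a * b) = 1 := by
  calc b * a * b * (b * a * b) = b * a * (b * b) * a * b := by group
    _ = b * (a * a) * b := by rw [F.bb]; group
    _ = 1 := by rw [F.aa, mul_one, F.bb]

theorem uc' : u * (b * c * b) = b * c * b * u := by
  rw [F.u_def]
  simpa only [List.map_cons, List.map_nil, List.prod_cons, List.prod_nil, letter, mul_one,
    mul_assoc] using F.rel [1, 0, 1, 2, 1, 0, 1, 2, 1, 2, 1] [1, 2, 1, 1, 0, 1, 2, 1, 0, 1, 2]
      (by decide +kernel)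

theorem ua' : u * (b * a * b) = b * a * b * u := by
  rw [F.u_def]
  simpa only [List.map_cons, List.map_nil, List.prod_cons, List.prod_nil, letter, mul_one,
    mul_assoc] using F.rel [1, 0, 1, 2, 1, 0, 1, 2, 1, 0, 1] [1, 0, 1, 1, 0, 1, 2, 1, 0, 1, 2]
      (by decide +kernel)

theorem c'z : b * c * b * z = z * (b * c * b) := by
  simpa only [List.map_cons, List.map_nil, List.prod_cons, List.prod_nil, letter, mul_one,
    mul_assoc] using F.rel [1, 2, 1, 6] [6, 1, 2, 1] (by decide +kernel)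

theorem a'z : b * a * b * z = z * (b * a * b) := by
  simpa only [List.map_cons, List.map_nil, List.prod_cons, List.prod_nil, letter, mul_one,
    mul_assoc] using F.rel [1, 0, 1, 6] [6, 1, 0, 1] (by decide +kernel)

theorem four₁ : Four z u c (b * c * b) :=
  ⟨F.zz, F.uu, F.cc, F.bcb_sq, F.uz.symm, F.cz.symm, F.c'z.symm, F.uc, F.uc', F.c_c'⟩

theorem four₂ : Four z u a (b * a * b) :=
  ⟨F.zz, F.uu, F.aa, F.bab_sq, F.uz.symm, F.az.symm, F.a'z.symm, F.ua, F.ua', F.a_a'⟩

theorem rho_z : y * b * z = z * (y * b) := by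
  rw [mul_assoc, F.bz, ← mul_assoc, F.yz, mul_assoc]

theorem rho_u : y * b * u = u * (y * b) := by
  rw [F.u_def]
  simpa only [List.map_cons, List.map_nil, List.prod_cons, List.prod_nil, letter, mul_one,
    mul_assoc] using F.rel [4, 1, 1, 0, 1, 2, 1, 0, 1, 2] [1, 0, 1, 2, 1, 0, 1, 2, 4, 1]
      (by decide +kernel)

theorem rho_ne : y * b ≠ 1 := by
  intro h
  have h1 := F.rho_c
  rw [h, one_mul, mul_one, eq_comm, mul_eq_left] at h1
  have h2 := F.inj₁ 8 (by norm_num) 0 (by norm_num) (by simp [four, Nat.testBit, h1])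
  norm_num at h2

/-- an element normalising `⟨z, u⟩` with `z ↦ u ↦ zu` -/
theorem exists_h1 (hfus : ∃ h s : G, cj h z = s ∧ s ≠ z ∧ s * z = z * s) :
    ∃ h : G, cj h z = u ∧ cj h u = z * u := by
  obtain ⟨h, s, hs, hsz, hsc⟩ := hfus
  have hss : s * s = 1 := by rw [← hs, ← cj_mul, F.zz, cj_one]
  have hs1 : s ≠ 1 := by
    rintro rfl
    rw [← cj_one h, cj_inj] at hs
    exact F.z_ne hs
  obtain ⟨k1, hk1, hk1s⟩ := F.conj_u s hsc hss hs1 hsz
  -- `k2 z k2⁻¹ = u`
  obtain ⟨k2, hk2⟩ : ∃ k2, cj k2 z = u := ⟨k1 * h, by rw [cj_mul_left, hs]; exact hk1s⟩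
  have hk2' : cj k2⁻¹ u = z := by rw [← hk2, ← cj_mul_left, inv_mul_cancel, one_cj]
  set r := cj k2⁻¹ z with hr
  have hrz : r * z = z * r := by
    rw [← hk2', hr, ← cj_mul, ← F.uz, cj_mul]
  have hrr : r * r = 1 := by rw [hr, ← cj_mul, F.zz, cj_one]
  have hr1 : r ≠ 1 := by
    intro h
    rw [hr, ← cj_one k2⁻¹, cj_inj] at h
    exact F.z_ne h
  have hrz' : r ≠ z := by
    intro h
    have h' : cj k2⁻¹ z = cj k2⁻¹ u := h.trans hk2'.symm
    rw [cj_inj] at h'
    exact F.u_ne_z h'.symm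
  obtain ⟨k3, hk3, hk3r⟩ := F.conj_u r hrz hrr hr1 hrz'
  refine ⟨k3 * k2⁻¹ * b, ?_, ?_⟩
  · rw [cj_mul_left, cj_eq_self.2 F.bz, cj_mul_left]
    exact hk3r
  · have h1 : cj b u = z * u := by rw [cj_eq]; exact F.ub
    have h2 : cj (k3 * k2⁻¹) z = u := by rw [cj_mul_left]; exact hk3r
    have h3 : cj (k3 * k2⁻¹) u = z := by rw [cj_mul_left, hk2', cj_eq_self]; exact hk3
    rw [cj_mul_left, h1, cj_mul, h2, h3, F.uz]

theorem cj_zu {h : G} (h1 : cj h z = u) (h2 : cj h u = z * u) : cj h (z * u) = z := by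
  rw [cj_mul, h1, h2, ← mul_assoc, F.uz, mul_assoc, F.uu, mul_one]

theorem comm_of_cj {h : G} (h1 : cj h z = u) (h2 : cj h u = z * u) {v : G}
    (hvz : v * z = z * v) (hvu : v * u = u * v) :
    cj h v * z = z * cj h v ∧ cj h v * u = u * cj h v := by
  have h3 := F.cj_zu h1 h2
  constructor
  · have h4 : cj h v * cj h (z * u) = cj h (z * u) * cj h v := by
      rw [← cj_mul, ← cj_mul, ← mul_assoc, hvz, mul_assoc, hvu, ← mul_assoc]
    rwa [h3] at h4
  · have h4 : cj h v * cj h z = cj h z * cj h v := cj_comm hvz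
    rwa [h1] at h4

/-- the element may be chosen to normalise `⟨ρ⟩` -/
theorem exists_h2 (hfus : ∃ h s : G, cj h z = s ∧ s ≠ z ∧ s * z = z * s) :
    ∃ h : G, cj h z = u ∧ cj h u = z * u ∧ (cj h (y * b) = y * b ∨ cj h (y * b) = (y * b)⁻¹) := by
  obtain ⟨h, h1, h2⟩ := F.exists_h1 hfus
  obtain ⟨h3, h4⟩ := F.comm_of_cj h1 h2 F.rho_z F.rho_u
  obtain ⟨k, hkz, hku, hk⟩ := F.sylow (cj h (y * b)) h3 h4 (by rw [← cj_pow, F.rho3, cj_one])
    (fun h5 => F.rho_ne (by rw [← cj_one h, cj_inj] at h5; exact h5))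
  refine ⟨k * h, ?_, ?_, ?_⟩
  · rw [cj_mul_left, h1, cj_eq_self]; exact hku
  · rw [cj_mul_left, h2, cj_mul, cj_eq_self.2 hkz, cj_eq_self.2 hku]
  · rcases hk with hk | hk
    · left; rw [cj_mul_left]; exact hk
    · right; rw [cj_mul_left]; exact hk

theorem mem_cent_sub₁ {v : G} (hv : v ∈ F.four₁.sub) : v * z = z * v ∧ v * u = u * v :=
  ⟨F.four₁.comm hv ⟨1, by norm_num, by simp [four, Nat.testBit]⟩,
    F.four₁.comm hv ⟨2, by norm_num, by simp [four, Nat.testBit]⟩⟩

theorem mem_cent_sub₂ {v : G} (hv : v ∈ F.four₂.sub) : v * z = z * v ∧ v * u = u * v :=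
  ⟨F.four₂.comm hv ⟨1, by norm_num, by simp [four, Nat.testBit]⟩,
    F.four₂.comm hv ⟨2, by norm_num, by simp [four, Nat.testBit]⟩⟩

theorem c_mem : c ∈ F.four₁.sub := ⟨4, by norm_num, by simp [four, Nat.testBit]⟩
theorem c'_mem : b * c * b ∈ F.four₁.sub := ⟨8, by norm_num, by simp [four, Nat.testBit]⟩
theorem a_mem : a ∈ F.four₂.sub := ⟨4, by norm_num, by simp [four, Nat.testBit]⟩
theorem a'_mem : b * a * b ∈ F.four₂.sub := ⟨8, by norm_num, by simp [four, Nat.testBit]⟩

theorem not_comm_ca : c * a ≠ a * c := by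
  intro h
  have h1 := F.ca_sq
  rw [show c * a * (c * a) = c * (a * c) * a by group, ← h,
    show c * (c * a) * a = c * c * (a * a) by group, F.cc, F.aa, mul_one] at h1
  exact F.z_ne h1.symm

/-- an element normalising `⟨z, u⟩` permutes the two subgroups -/
theorem cj_sub {h : G} (h1 : cj h z = u) (h2 : cj h u = z * u) :
    ((∀ v ∈ F.four₁.sub, cj h v ∈ F.four₁.sub) ∧ (∀ v ∈ F.four₂.sub, cj h v ∈ F.four₂.sub)) ∨
    ((∀ v ∈ F.four₁.sub, cj h v ∈ F.four₂.sub) ∧ (∀ v ∈ F.four₂.sub, cj h v ∈ F.four₁.sub)) := by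
  have key1 : F.four₁.sub.map (MulAut.conj h).toMonoidHom ≤ F.four₁.sub ∨
      F.four₁.sub.map (MulAut.conj h).toMonoidHom ≤ F.four₂.sub := by
    rw [← SubgroupClass.subset_union]
    rintro _ ⟨v, hv, rfl⟩
    obtain ⟨h3, h4⟩ := F.mem_cent_sub₁ hv
    obtain ⟨h5, h6⟩ := F.comm_of_cj h1 h2 h3 h4
    exact F.invol _ h5 h6 (by
      change cj h v * cj h v = 1
      rw [← cj_mul, F.four₁.sq hv, cj_one])
  have key2 : F.four₂.sub.map (MulAut.conj h).toMonoidHom ≤ F.four₁.sub ∨
      F.four₂.sub.map (MulAut.conj h).toMonoidHom ≤ F.four₂.sub := by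
    rw [← SubgroupClass.subset_union]
    rintro _ ⟨v, hv, rfl⟩
    obtain ⟨h3, h4⟩ := F.mem_cent_sub₂ hv
    obtain ⟨h5, h6⟩ := F.comm_of_cj h1 h2 h3 h4
    exact F.invol _ h5 h6 (by
      change cj h v * cj h v = 1
      rw [← cj_mul, F.four₂.sq hv, cj_one])
  have hval : ∀ {A B : Subgroup G}, A.map (MulAut.conj h).toMonoidHom ≤ B → ∀ v ∈ A, cj h v ∈ B :=
    fun hAB v hv => hAB ⟨v, hv, rfl⟩
  have hne : ∀ {B : Subgroup G}, (∀ g ∈ B, ∀ g' ∈ B, g * g' = g' * g) → cj h c ∈ B → cj h a ∈ B →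
      False := by
    intro B hB hc ha
    have h3 := hB _ hc _ ha
    rw [← cj_mul, ← cj_mul, cj_inj] at h3
    exact F.not_comm_ca h3
  rcases key1 with k1 | k1 <;> rcases key2 with k2 | k2
  · exact (hne (fun g hg g' hg' => F.four₁.comm hg hg') (hval k1 _ F.c_mem)
      (hval k2 _ F.a_mem)).elim
  · exact Or.inl ⟨hval k1, hval k2⟩
  · exact Or.inr ⟨hval k1, hval k2⟩
  · exact (hne (fun g hg g' hg' => F.four₂.comm hg hg') (hval k1 _ F.c_mem)
      (hval k2 _ F.a_mem)).elim

/-- the element may be chosen to centralise `ρ` and to normalise both subgroups -/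
theorem exists_h3 (hfus : ∃ h s : G, cj h z = s ∧ s ≠ z ∧ s * z = z * s) :
    ∃ h : G, cj h z = u ∧ cj h u = z * u ∧ cj h (y * b) = y * b ∧
      (∀ v ∈ F.four₁.sub, cj h v ∈ F.four₁.sub) ∧ (∀ v ∈ F.four₂.sub, cj h v ∈ F.four₂.sub) := by
  obtain ⟨h, h1, h2, h3⟩ := F.exists_h2 hfus
  have h4 := F.cj_zu h1 h2
  have hρ : cj (h * h) (y * b) = y * b := by
    rw [cj_mul_left]
    rcases h3 with h3 | h3
    · rw [h3, h3]
    · rw [h3, cj_inv, h3, inv_inv]
  have hs : (∀ v ∈ F.four₁.sub, cj (h * h) v ∈ F.four₁.sub) ∧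
      (∀ v ∈ F.four₂.sub, cj (h * h) v ∈ F.four₂.sub) := by
    rcases F.cj_sub h1 h2 with ⟨k1, k2⟩ | ⟨k1, k2⟩
    · exact ⟨fun v hv => by rw [cj_mul_left]; exact k1 _ (k1 _ hv),
        fun v hv => by rw [cj_mul_left]; exact k2 _ (k2 _ hv)⟩
    · exact ⟨fun v hv => by rw [cj_mul_left]; exact k2 _ (k1 _ hv),
        fun v hv => by rw [cj_mul_left]; exact k1 _ (k2 _ hv)⟩
  refine ⟨h * h * (h * h), ?_, ?_, ?_, fun v hv => ?_, fun v hv => ?_⟩
  · rw [cj_mul_left, cj_mul_left, cj_mul_left, h1, h2, h4, h1]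
  · rw [cj_mul_left, cj_mul_left, cj_mul_left, h2, h4, h1, h2]
  · rw [cj_mul_left, hρ, hρ]
  · rw [cj_mul_left]; exact hs.1 _ (hs.1 _ hv)
  · rw [cj_mul_left]; exact hs.2 _ (hs.2 _ hv)

theorem cj_rho_four₁ (i : ℕ) : cj (y * b) (four z u c (b * c * b) i) =
    four z u (c * (b * c * b)) c i := by
  rw [cj_four, cj_eq_self.2 F.rho_z, cj_eq_self.2 F.rho_u, cj_eq.2 F.rho_c, cj_eq.2 F.rho_c']

theorem cj_rho_four₂ (i : ℕ) : cj (y * b) (four z u a (b * a * b) i) =
    four z u (a * (b * a * b)) a i := by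
  rw [cj_four, cj_eq_self.2 F.rho_z, cj_eq_self.2 F.rho_u, cj_eq.2 F.rho_a, cj_eq.2 F.rho_a']

/-- commutators with `ρ` -/
theorem comm_rho {e f : G} (ht : Four z u e f) (hr1 : cj (y * b) e = e * f)
    (hr2 : cj (y * b) f = e) {v : G} (hv : v ∈ ht.sub) :
    v * cj (y * b) v = 1 ∨ v * cj (y * b) v = e ∨ v * cj (y * b) v = f ∨
      v * cj (y * b) v = e * f := by
  have hρ : ∀ i, cj (y * b) (four z u e f i) = four z u (e * f) e i := by
    intro i
    rw [cj_four, cj_eq_self.2 F.rho_z, cj_eq_self.2 F.rho_u, hr1, hr2]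
  have h12 : four z u e f 12 = e * f := by simp [four, Nat.testBit]
  have h4 : four z u e f 4 = e := by simp [four, Nat.testBit]
  have h8 : four z u e f 8 = f := by simp [four, Nat.testBit]
  have h0 : four z u e f 0 = 1 := by simp [four]
  have htab : ∀ i < 16, four z u (e * f) e i = four z u e f
      ((if i.testBit 0 then 1 else 0) ^^^ (if i.testBit 1 then 2 else 0) ^^^
        (if i.testBit 2 then 12 else 0) ^^^ (if i.testBit 3 then 4 else 0)) := by
    intro i _
    rw [← ht.mul, ← ht.mul, ← ht.mul]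
    rw [four]
    congr 1
    · congr 1
      · congr 1
        · cases i.testBit 0 <;> simp [four, Nat.testBit]
        · cases i.testBit 1 <;> simp [four, Nat.testBit]
      · cases i.testBit 2
        · simp [four]
        · simp [h12]
    · cases i.testBit 3
      · simp [four]
      · simp [h4]
  obtain ⟨i, hi, rfl⟩ := hv
  rw [hρ, htab i hi, ht.mul]
  have hfin : ∀ i < 16, (i ^^^ ((if i.testBit 0 then 1 else 0) ^^^ (if i.testBit 1 then 2 else 0) ^^^
        (if i.testBit 2 then 12 else 0) ^^^ (if i.testBit 3 then 4 else 0))) = 0 ∨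
      (i ^^^ ((if i.testBit 0 then 1 else 0) ^^^ (if i.testBit 1 then 2 else 0) ^^^
        (if i.testBit 2 then 12 else 0) ^^^ (if i.testBit 3 then 4 else 0))) = 4 ∨
      (i ^^^ ((if i.testBit 0 then 1 else 0) ^^^ (if i.testBit 1 then 2 else 0) ^^^
        (if i.testBit 2 then 12 else 0) ^^^ (if i.testBit 3 then 4 else 0))) = 8 ∨
      (i ^^^ ((if i.testBit 0 then 1 else 0) ^^^ (if i.testBit 1 then 2 else 0) ^^^
        (if i.testBit 2 then 12 else 0) ^^^ (if i.testBit 3 then 4 else 0))) = 12 := by decide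
  rcases hfin i hi with h | h | h | h
  · left; rw [h, h0]
  · right; left; rw [h, h4]
  · right; right; left; rw [h, h8]
  · right; right; right; rw [h, h12]

/-- an element commuting with `ρ` and normalising `⟨z, u, e, f⟩` permutes `e, f, ef` -/
theorem cj_three {e f : G} (ht : Four z u e f) (hr1 : cj (y * b) e = e * f)
    (hr2 : cj (y * b) f = e) (he : e ≠ 1) {h : G} (h3 : cj h (y * b) = y * b)
    (hs : ∀ v ∈ ht.sub, cj h v ∈ ht.sub) :
    cj h e = e ∨ cj h e = f ∨ cj h e = e * f := by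
  have hef : e * f ∈ ht.sub := ⟨12, by norm_num, by simp [four, Nat.testBit]⟩
  have h4 : e = (e * f) * cj (y * b) (e * f) := by
    rw [cj_mul, hr1, hr2, ht.c23.eq, show f * e * (f * e * e) = f * (e * f) * (e * e) by group,
      ht.s2, mul_one, ht.c23.eq, ← mul_assoc, ht.s3, one_mul]
  have h5 : cj h e = cj h (e * f) * cj (y * b) (cj h (e * f)) := by
    conv_lhs => rw [h4]
    rw [cj_mul, ← cj_mul_left, ← cj_mul_left]
    congr 2
    rw [cj_eq] at h3
    exact h3
  have h6 := F.comm_rho ht hr1 hr2 (hs _ hef)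
  rw [← h5] at h6
  rcases h6 with h7 | h7 | h7 | h7
  · exfalso
    rw [← cj_one h, cj_inj] at h7
    exact he h7
  · exact Or.inl h7
  · exact Or.inr (Or.inl h7)
  · exact Or.inr (Or.inr h7)

theorem c_ne_one : c ≠ 1 := by
  intro h
  exact F.not_comm_ca (by rw [h, one_mul, mul_one])

theorem a_ne_one : a ≠ 1 := by
  intro h
  exact F.not_comm_ca (by rw [h, one_mul, mul_one])

/-- an element `v ρ ^ i` centralising `c` lies in `⟨z, u⟩` -/
theorem mem_of_cent {v k : G} {i : ℕ} (hv : v = 1 ∨ v = z ∨ v = u ∨ v = z * u) (hi : i < 3)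
    (hk : k = v * (y * b) ^ i) (hc : cj k c = c) : k = v := by
  have hvc : cj v c = c := by
    rcases hv with rfl | rfl | rfl | rfl
    · exact one_cj _
    · exact cj_eq_self.2 F.cz.symm
    · exact cj_eq_self.2 F.uc
    · rw [cj_mul_left, cj_eq_self.2 F.uc, cj_eq_self.2 F.cz.symm]
  have h1 : cj ((y * b) ^ i) c = c := by
    rw [hk, cj_mul_left] at hc
    have h2 := hc.trans hvc.symm
    exact cj_inj.1 h2
  have hρc := cj_eq.2 F.rho_c
  have hρc' := cj_eq.2 F.rho_c'
  interval_cases i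
  · rw [hk, pow_zero, mul_one]
  · exfalso
    rw [pow_one, hρc, mul_eq_left] at h1
    have h2 := F.inj₁ 8 (by norm_num) 0 (by norm_num) (by simp [four, Nat.testBit, h1])
    norm_num at h2
  · exfalso
    rw [pow_two, cj_mul_left, hρc, cj_mul, hρc, hρc'] at h1
    have h3 : c * (b * c * b) * c = b * c * b := by
      rw [F.c_c', mul_assoc, F.cc, mul_one]
    rw [h3] at h1
    have h2 := F.inj₁ 8 (by norm_num) 4 (by norm_num) (by simp [four, Nat.testBit, h1])
    norm_num at h2

theorem fixed_V {h v : G} (h1 : cj h z = u) (h2 : cj h u = z * u)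
    (hv : v = 1 ∨ v = z ∨ v = u ∨ v = z * u) (hf : cj h v = v) : v = 1 := by
  rcases hv with rfl | rfl | rfl | rfl
  · rfl
  · exact absurd (h1.symm.trans hf) F.u_ne_z
  · exfalso
    have := h2.symm.trans hf
    rw [mul_eq_right] at this
    exact F.z_ne this
  · exfalso
    have := (F.cj_zu h1 h2).symm.trans hf
    rw [eq_comm, mul_eq_left] at this
    exact F.u_ne_one this

/-- the element `d` up to the last normalisation -/
theorem exists_h4 (hfus : ∃ h s : G, cj h z = s ∧ s ≠ z ∧ s * z = z * s) :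
    ∃ d : G, cj d z = u ∧ cj d u = z * u ∧ cj d (y * b) = y * b ∧ cj d c = c ∧
      cj d a = b * a * b ∧ d ^ 3 = 1 := by
  obtain ⟨h, h1, h2, h3, h4, h5⟩ := F.exists_h3 hfus
  have hρz := cj_eq_self.2 F.rho_z
  have hρu := cj_eq_self.2 F.rho_u
  have hρc := cj_eq.2 F.rho_c
  have hρc' := cj_eq.2 F.rho_c'
  have hρa := cj_eq.2 F.rho_a
  have hρa' := cj_eq.2 F.rho_a'
  have hρcc' : cj (y * b) (c * (b * c * b)) = b * c * b := by
    rw [cj_mul, hρc, hρc', F.c_c', mul_assoc, F.cc, mul_one]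
  have hρaa' : cj (y * b) (a * (b * a * b)) = b * a * b := by
    rw [cj_mul, hρa, hρa', F.a_a', mul_assoc, F.aa, mul_one]
  have hρρ : cj (y * b) (y * b) = y * b := cj_eq_self.2 rfl
  have hρsub₁ : ∀ v ∈ F.four₁.sub, cj (y * b) v ∈ F.four₁.sub := by
    rintro _ ⟨i, hi, rfl⟩
    rw [F.cj_rho_four₁, four]
    refine mul_mem (mul_mem (mul_mem ?_ ?_) ?_) ?_
    · split_ifs
      · exact ⟨1, by norm_num, by simp [four, Nat.testBit]⟩
      · exact one_mem _
    · split_ifs
      · exact ⟨2, by norm_num, by simp [four, Nat.testBit]⟩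
      · exact one_mem _
    · split_ifs
      · exact mul_mem F.c_mem F.c'_mem
      · exact one_mem _
    · split_ifs
      · exact F.c_mem
      · exact one_mem _
  have hρsub₂ : ∀ v ∈ F.four₂.sub, cj (y * b) v ∈ F.four₂.sub := by
    rintro _ ⟨i, hi, rfl⟩
    rw [F.cj_rho_four₂, four]
    refine mul_mem (mul_mem (mul_mem ?_ ?_) ?_) ?_
    · split_ifs
      · exact ⟨1, by norm_num, by simp [four, Nat.testBit]⟩
      · exact one_mem _
    · split_ifs
      · exact ⟨2, by norm_num, by simp [four, Nat.testBit]⟩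
      · exact one_mem _
    · split_ifs
      · exact mul_mem F.a_mem F.a'_mem
      · exact one_mem _
    · split_ifs
      · exact F.a_mem
      · exact one_mem _
  -- multiply by a power of `ρ`
  obtain ⟨d, hd1, hd2, hd3, hdc, hd5⟩ : ∃ d : G, cj d z = u ∧ cj d u = z * u ∧
      cj d (y * b) = y * b ∧ cj d c = c ∧ (∀ v ∈ F.four₂.sub, cj d v ∈ F.four₂.sub) := by
    have step : ∀ k, (cj k z = u ∧ cj k u = z * u ∧ cj k (y * b) = y * b ∧
        (∀ v ∈ F.four₂.sub, cj k v ∈ F.four₂.sub)) →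
        (cj (y * b * k) z = u ∧ cj (y * b * k) u = z * u ∧ cj (y * b * k) (y * b) = y * b ∧
        (∀ v ∈ F.four₂.sub, cj (y * b * k) v ∈ F.four₂.sub)) ∧
        cj (y * b * k) c = cj (y * b) (cj k c) := by
      rintro k ⟨k1, k2, k3, k4⟩
      refine ⟨⟨?_, ?_, ?_, fun v hv => ?_⟩, cj_mul_left _ _ _⟩
      · rw [cj_mul_left, k1, hρu]
      · rw [cj_mul_left, k2, cj_mul, hρz, hρu]
      · rw [cj_mul_left, k3, hρρ]
      · rw [cj_mul_left]; exact hρsub₂ _ (k4 _ hv)
    rcases F.cj_three F.four₁ hρc hρc' F.c_ne_one h3 h4 with h6 | h6 | h6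
    · exact ⟨h, h1, h2, h3, h6, h5⟩
    · obtain ⟨⟨k1, k2, k3, k4⟩, k5⟩ := step h ⟨h1, h2, h3, h5⟩
      exact ⟨y * b * h, k1, k2, k3, by rw [k5, h6, hρc'], k4⟩
    · obtain ⟨hk, k5⟩ := step h ⟨h1, h2, h3, h5⟩
      obtain ⟨⟨k1, k2, k3, k4⟩, k6⟩ := step _ hk
      exact ⟨_, k1, k2, k3, by rw [k6, k5, h6, hρcc', hρc'], k4⟩
  have hda : cj d a = b * a * b := by
    have h7 : (cj d c * cj d a) * (cj d c * cj d a) = u := by
      rw [← cj_mul, ← cj_mul, F.ca_sq, hd1]
    rw [hdc] at h7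
    rcases F.cj_three F.four₂ hρa hρa' F.a_ne_one hd3 hd5 with h6 | h6 | h6
    · exfalso
      rw [h6, F.ca_sq] at h7
      exact F.u_ne_z h7.symm
    · exact h6
    · exfalso
      rw [h6, F.caa'_sq, mul_eq_right] at h7
      exact F.z_ne h7
  refine ⟨d, hd1, hd2, hd3, hdc, hda, ?_⟩
  have hzu := F.cj_zu hd1 hd2
  have hdd : d ^ 3 = d * (d * d) := by rw [pow_succ', pow_two]
  have e1 : cj (d ^ 3) z = z := by rw [hdd, cj_mul_left, cj_mul_left, hd1, hd2, hzu]
  have e2 : cj (d ^ 3) u = u := by rw [hdd, cj_mul_left, cj_mul_left, hd2, hzu, hd1]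
  have e3 : cj (d ^ 3) (y * b) = y * b := by rw [hdd, cj_mul_left, cj_mul_left, hd3, hd3, hd3]
  have e4 : cj (d ^ 3) c = c := by rw [hdd, cj_mul_left, cj_mul_left, hdc, hdc, hdc]
  obtain ⟨v, hv, i, hi, h6⟩ := F.cent_rho (d ^ 3) (cj_eq_self.1 e1) (cj_eq_self.1 e2)
    (cj_eq_self.1 e3)
  have h7 := F.mem_of_cent hv hi h6 e4
  have h8 : cj d v = v := by
    rw [← h7, cj_pow, cj_eq_self.2 rfl]
  rw [h7]
  exact F.fixed_V hd1 hd2 hv h8

/-- **The element `d`.** -/
theorem exists_d (hfus : ∃ h s : G, cj h z = s ∧ s ≠ z ∧ s * z = z * s) :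
    ∃ d : G, cj d z = u ∧ cj d u = z * u ∧ cj d (y * b) = y * b ∧ cj d c = c ∧
      cj d a = b * a * b ∧ d ^ 3 = 1 ∧ d * b * (d * b) = 1 := by
  obtain ⟨d, h1, h2, h3, h4, h5, h6⟩ := F.exists_h4 hfus
  have hbi : b⁻¹ = b := inv_eq_of_mul_eq_one_left F.bb
  have hbz : cj b z = z := cj_eq_self.2 F.bz
  have hbu : cj b u = z * u := cj_eq.2 F.ub
  have hbzu : cj b (z * u) = u := by rw [cj_mul, hbz, hbu, ← mul_assoc, F.zz, one_mul]
  have hbc : cj b c = b * c * b := by rw [cj, hbi]
  have hbc' : cj b (b * c * b) = c := by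
    rw [cj, hbi]
    calc b * (b * c * b) * b = (b * b) * c * (b * b) := by group
      _ = c := by rw [F.bb, one_mul, mul_one]
  have hbρ : cj b (y * b) = (y * b)⁻¹ := by
    rw [cj, hbi, mul_inv_rev, hbi, inv_eq_of_mul_eq_one_left F.yy]
    calc b * (y * b) * b = b * y * (b * b) := by group
      _ = b * y := by rw [F.bb, mul_one]
  have hdc' : cj d (b * c * b) = b * c * b := by
    -- `c' = ρ⁻¹ c ρ`
    have h7 : b * c * b = cj (y * b)⁻¹ c := by
      calc b * c * b = cj (y * b)⁻¹ (cj (y * b) (b * c * b)) := by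
            rw [← cj_mul_left, inv_mul_cancel, one_cj]
        _ = cj (y * b)⁻¹ c := by rw [cj_eq.2 F.rho_c']
    have h8 : d * (y * b)⁻¹ = (y * b)⁻¹ * d := by
      have := cj_eq_self.1 h3
      rw [mul_inv_eq_iff_eq_mul, mul_assoc, this, inv_mul_cancel_left]
    rw [h7, ← cj_mul_left, h8, cj_mul_left, h4]
  have hzu := F.cj_zu h1 h2
  -- `t = d * (b d b)`
  set t := d * b * (d * b) with ht
  have tz : cj t z = z := by
    rw [ht, cj_mul_left, cj_mul_left, cj_mul_left, hbz, h1, hbu, hzu]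
  have tu : cj t u = u := by
    rw [ht, cj_mul_left, cj_mul_left, cj_mul_left, hbu, hzu, hbz, h1]
  have tρ : cj t (y * b) = y * b := by
    rw [ht, cj_mul_left, cj_mul_left, cj_mul_left, hbρ, cj_inv, h3, cj_inv, hbρ, inv_inv, h3]
  have tc : cj t c = c := by
    rw [ht, cj_mul_left, cj_mul_left, cj_mul_left, hbc, hdc', hbc', h4]
  obtain ⟨v, hv, i, hi, h7⟩ := F.cent_rho t (cj_eq_self.1 tz) (cj_eq_self.1 tu)
    (cj_eq_self.1 tρ)
  have h8 := F.mem_of_cent hv hi h7 tc
  have htv : cj (d * b) v = v := by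
    rw [← h8, ht, cj_eq_self]
    group
  -- `v = 1` or `v = zu`
  have hv2 : v = 1 ∨ v = z * u := by
    rcases hv with hv | hv | hv | hv
    · exact Or.inl hv
    · exfalso
      rw [hv, cj_mul_left, hbz, h1] at htv
      exact F.u_ne_z htv
    · exfalso
      rw [hv, cj_mul_left, hbu, hzu] at htv
      exact F.u_ne_z htv.symm
    · exact Or.inr hv
  rcases hv2 with hv2 | hv2
  · exact ⟨d, h1, h2, h3, h4, h5, h6, by rw [← ht, h8, hv2]⟩
  · have huz : cj u z = z := cj_eq_self.2 F.uz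
    have huu : cj u u = u := cj_eq_self.2 rfl
    have hui : u⁻¹ = u := inv_eq_of_mul_eq_one_left F.uu
    refine ⟨u * d * u, ?_, ?_, ?_, ?_, ?_, ?_, ?_⟩
    · rw [cj_mul_left, cj_mul_left, huz, h1, huu]
    · rw [cj_mul_left, cj_mul_left, huu, h2, cj_mul, huz, huu]
    · have : cj u (y * b) = y * b := cj_eq_self.2 F.rho_u.symm
      rw [cj_mul_left, cj_mul_left, this, h3, this]
    · have : cj u c = c := cj_eq_self.2 F.uc
      rw [cj_mul_left, cj_mul_left, this, h4, this]
    · have e1 : cj u a = a := cj_eq_self.2 F.ua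
      have e2 : cj u (b * a * b) = b * a * b := cj_eq_self.2 F.ua'
      rw [cj_mul_left, cj_mul_left, e1, h5, e2]
    · calc (u * d * u) ^ 3 = u * d * (u * u) * d * (u * u) * d * u := by
            simp only [pow_succ, pow_zero, one_mul]; group
        _ = u * (d ^ 3) * u := by rw [F.uu, mul_one, mul_one]; simp only [pow_succ, pow_zero, one_mul]; group
        _ = 1 := by rw [h6, mul_one, F.uu]
    · -- `u b = b (z u)`, so `(u d u b)² = u d b z u d b z = ...`
      have e1 : u * b = b * (z * u) := by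
        have := cj_eq.1 hbzu
        exact this.symm
      have e2 : d * b * z = u * (d * b) := by
        rw [← cj_eq, cj_mul_left, hbz, h1]
      have e3 : d * b * (d * b) = z * u := by rw [← ht, h8, hv2]
      have e4 : d * b * z * (d * b * z) = 1 := by
        calc d * b * z * (d * b * z) = u * (d * b) * (d * b * z) := by rw [← e2]
          _ = u * (d * b * (d * b)) * z := by group
          _ = u * u * (z * z) := by rw [e3, ← F.uz]; group
          _ = 1 := by rw [F.uu, F.zz, mul_one]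
      calc u * d * u * b * (u * d * u * b) = u * d * (u * b) * u * d * (u * b) := by group
        _ = u * (d * b * z) * (u * u) * (d * b * z) * u := by rw [e1]; group
        _ = u * (d * b * z * (d * b * z)) * u := by rw [F.uu]; group
        _ = 1 := by rw [e4, mul_one, F.uu]

end GFacts

end Cfsg.Agent.McLType.Local
end

-- part: McLType/Relators
section
/-!
# The relators of the seven involutions `a b c x y w g`

`gen a b c x y w g : Fin 7 → G`; `ok r` is a test for words `r` which guarantees that `r` is a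
relation in every group with a non-isolated involution whose centralizer is `2.A_8`.
-/

set_option autoImplicit false
set_option maxRecDepth 100000

namespace Cfsg.Agent.McLType.Relators

open Model8 Facts8 Local Subgroup

/-- the tuple of the seven generators -/
def gen {G : Type*} (a b c x y w g : G) : Fin 7 → G := ![a, b, c, x, y, w, g]

/-- linear map on bit vectors given by the images of the basis -/
def lin (m : ℕ × ℕ × ℕ × ℕ) (i : ℕ) : ℕ :=
  (if i.testBit 0 then m.1 else 0) ^^^ (if i.testBit 1 then m.2.1 else 0) ^^^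
    (if i.testBit 2 then m.2.2.1 else 0) ^^^ (if i.testBit 3 then m.2.2.2 else 0)

/-- action of the letters on `A_1` -/
def m1 : ℕ → ℕ × ℕ × ℕ × ℕ
  | 0 => (1, 2, 5, 11)
  | 1 => (1, 3, 8, 4)
  | 2 => (1, 2, 4, 8)
  | 3 => (1, 15, 5, 9)
  | 4 => (1, 3, 4, 12)
  | 6 => (3, 2, 4, 12)
  | _ => (0, 0, 0, 0)

/-- action of the letters on `A_2` -/
def m2 : ℕ → ℕ × ℕ × ℕ × ℕ
  | 0 => (1, 2, 4, 8)
  | 1 => (1, 3, 8, 4)
  | 2 => (1, 2, 5, 10)
  | 4 => (1, 3, 4, 12)
  | 5 => (1, 15, 5, 9)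
  | 6 => (3, 2, 12, 8)
  | _ => (0, 0, 0, 0)

theorem m1_lt : ∀ k < 7, (m1 k).1 < 16 ∧ (m1 k).2.1 < 16 ∧ (m1 k).2.2.1 < 16 ∧
    (m1 k).2.2.2 < 16 := by decide
theorem m2_lt : ∀ k < 7, (m2 k).1 < 16 ∧ (m2 k).2.1 < 16 ∧ (m2 k).2.2.1 < 16 ∧
    (m2 k).2.2.2 < 16 := by decide

theorem chk_m1 : ∀ k < 5, (chk (k :: w1 1) (w1 (m1 k).1 ++ [k])) = true ∧
    (chk (k :: w1 2) (w1 (m1 k).2.1 ++ [k])) = true ∧
    (chk (k :: w1 4) (w1 (m1 k).2.2.1 ++ [k])) = true ∧
    (chk (k :: w1 8) (w1 (m1 k).2.2.2 ++ [k])) = true := by decide +kernel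

theorem chk_m2 : ∀ k < 6, k ≠ 3 → (chk (k :: w2 1) (w2 (m2 k).1 ++ [k])) = true ∧
    (chk (k :: w2 2) (w2 (m2 k).2.1 ++ [k])) = true ∧
    (chk (k :: w2 4) (w2 (m2 k).2.2.1 ++ [k])) = true ∧
    (chk (k :: w2 8) (w2 (m2 k).2.2.2 ++ [k])) = true := by decide +kernel

section four

variable {G : Type*} [Group G] {e₀ e₁ e₂ e₃ : G}

theorem four_zero : four e₀ e₁ e₂ e₃ 0 = 1 := by simp [four]
theorem four_one : four e₀ e₁ e₂ e₃ 1 = e₀ := by simp [four, Nat.testBit]
theorem four_two : four e₀ e₁ e₂ e₃ 2 = e₁ := by simp [four, Nat.testBit]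
theorem four_four : four e₀ e₁ e₂ e₃ 4 = e₂ := by simp [four, Nat.testBit]
theorem four_eight : four e₀ e₁ e₂ e₃ 8 = e₃ := by simp [four, Nat.testBit]

theorem four_comp (F : Four e₀ e₁ e₂ e₃) (m : ℕ × ℕ × ℕ × ℕ) (i : ℕ) :
    four (four e₀ e₁ e₂ e₃ m.1) (four e₀ e₁ e₂ e₃ m.2.1) (four e₀ e₁ e₂ e₃ m.2.2.1)
      (four e₀ e₁ e₂ e₃ m.2.2.2) i = four e₀ e₁ e₂ e₃ (lin m i) := by
  have key : ∀ (p : Bool) (n : ℕ), (if p then four e₀ e₁ e₂ e₃ n else 1) =
      four e₀ e₁ e₂ e₃ (if p then n else 0) := by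
    intro p n
    cases p
    · simp [four_zero]
    · simp
  rw [lin, ← F.mul, ← F.mul, ← F.mul, four, key, key, key, key]

theorem cj_four_of (F : Four e₀ e₁ e₂ e₃) {h : G} {m : ℕ × ℕ × ℕ × ℕ}
    (h0 : cj h e₀ = four e₀ e₁ e₂ e₃ m.1) (h1 : cj h e₁ = four e₀ e₁ e₂ e₃ m.2.1)
    (h2 : cj h e₂ = four e₀ e₁ e₂ e₃ m.2.2.1) (h3 : cj h e₃ = four e₀ e₁ e₂ e₃ m.2.2.2) (i : ℕ) :
    cj h (four e₀ e₁ e₂ e₃ i) = four e₀ e₁ e₂ e₃ (lin m i) := by
  rw [cj_four, h0, h1, h2, h3, four_comp F]

end four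

/-- The data of the local analysis. -/
structure Data {G : Type*} [Group G] (z a b c x y w u d : G) : Prop where
  F : GFacts z a b c x y w u
  dz : cj d z = u
  du : cj d u = z * u
  dρ : cj d (y * b) = y * b
  dc : cj d c = c
  da : cj d a = b * a * b
  d3 : d ^ 3 = 1
  db : d * b * (d * b) = 1

namespace Data

variable {G : Type*} [Group G] {z a b c x y w u d : G} (D : Data z a b c x y w u d)

include D

theorem hbi : b⁻¹ = b := inv_eq_of_mul_eq_one_left D.F.bb

theorem rho_inv_c : cj (y * b)⁻¹ c = b * c * b := by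
  rw [← cj_eq.2 D.F.rho_c', ← cj_mul_left, inv_mul_cancel, one_cj, cj_eq.2 D.F.rho_c']

theorem rho_inv_c' : cj (y * b)⁻¹ (b * c * b) = c * (b * c * b) := by
  have h : cj (y * b) (c * (b * c * b)) = b * c * b := by
    rw [cj_mul, cj_eq.2 D.F.rho_c, cj_eq.2 D.F.rho_c', D.F.c_c', mul_assoc, D.F.cc, mul_one]
  calc cj (y * b)⁻¹ (b * c * b) = cj (y * b)⁻¹ (cj (y * b) (c * (b * c * b))) := by rw [h]
    _ = c * (b * c * b) := by rw [← cj_mul_left, inv_mul_cancel, one_cj]

theorem rho_inv_a : cj (y * b)⁻¹ a = b * a * b := by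
  rw [← cj_eq.2 D.F.rho_a', ← cj_mul_left, inv_mul_cancel, one_cj, cj_eq.2 D.F.rho_a']

theorem rho_inv_a' : cj (y * b)⁻¹ (b * a * b) = a * (b * a * b) := by
  have h : cj (y * b) (a * (b * a * b)) = b * a * b := by
    rw [cj_mul, cj_eq.2 D.F.rho_a, cj_eq.2 D.F.rho_a', D.F.a_a', mul_assoc, D.F.aa, mul_one]
  calc cj (y * b)⁻¹ (b * a * b) = cj (y * b)⁻¹ (cj (y * b) (a * (b * a * b))) := by rw [h]
    _ = a * (b * a * b) := by rw [← cj_mul_left, inv_mul_cancel, one_cj]

theorem d_comm : d * (y * b)⁻¹ = (y * b)⁻¹ * d := by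
  have := cj_eq_self.1 D.dρ
  rw [mul_inv_eq_iff_eq_mul, mul_assoc, this, inv_mul_cancel_left]

theorem dc' : cj d (b * c * b) = b * c * b := by
  rw [← D.rho_inv_c, ← cj_mul_left, D.d_comm, cj_mul_left, D.dc]

theorem da' : cj d (b * a * b) = a * (b * a * b) := by
  rw [← D.rho_inv_a, ← cj_mul_left, D.d_comm, cj_mul_left, D.da, D.rho_inv_a', D.rho_inv_a]

theorem rho_inv_z : cj (y * b)⁻¹ z = z := by
  rw [cj_eq_self]
  have : Commute (y * b) z := D.F.rho_z
  exact this.inv_left

theorem rho_inv_u : cj (y * b)⁻¹ u = u := by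
  rw [cj_eq_self]
  have : Commute (y * b) u := D.F.rho_u
  exact this.inv_left

/-- conjugation by `e = d ρ⁻¹` -/
theorem ez : cj (d * (y * b)⁻¹) z = u := by rw [cj_mul_left, D.rho_inv_z, D.dz]
theorem eu : cj (d * (y * b)⁻¹) u = z * u := by rw [cj_mul_left, D.rho_inv_u, D.du]
theorem ec : cj (d * (y * b)⁻¹) c = b * c * b := by rw [cj_mul_left, D.rho_inv_c, D.dc']
theorem ec' : cj (d * (y * b)⁻¹) (b * c * b) = c * (b * c * b) := by
  rw [cj_mul_left, D.rho_inv_c', cj_mul, D.dc, D.dc']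
theorem ea : cj (d * (y * b)⁻¹) a = a * (b * a * b) := by rw [cj_mul_left, D.rho_inv_a, D.da']
theorem ea' : cj (d * (y * b)⁻¹) (b * a * b) = a := by
  rw [cj_mul_left, D.rho_inv_a', cj_mul, D.da, D.da', ← mul_assoc, ← D.F.a_a', mul_assoc,
    D.F.bab_sq, mul_one]

theorem e3 : (d * (y * b)⁻¹) ^ 3 = 1 := by
  have h : Commute d (y * b)⁻¹ := D.d_comm
  rw [h.mul_pow, D.d3, inv_pow, D.F.rho3, inv_one, mul_one]

/-- `b e = e⁻¹ b` -/
theorem be : (d * (y * b)⁻¹) * b = b * (d * (y * b)⁻¹)⁻¹ := by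
  have h1 : d * b = b * d⁻¹ := by
    have := D.db
    rw [mul_eq_one_iff_eq_inv, mul_inv_rev, D.hbi] at this
    exact this
  have hyi : y⁻¹ = y := inv_eq_of_mul_eq_one_left D.F.yy
  have h2 : (y * b)⁻¹ * b = b * (y * b) := by
    rw [mul_inv_rev, D.hbi, hyi, mul_assoc]
  calc d * (y * b)⁻¹ * b = d * b * (y * b) := by rw [mul_assoc, h2, mul_assoc]
    _ = b * (d⁻¹ * (y * b)) := by rw [h1, mul_assoc]
    _ = b * (d * (y * b)⁻¹)⁻¹ := by
      have h3 : Commute d⁻¹ (y * b) := by
        have : Commute d (y * b)⁻¹ := D.d_comm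
        simpa using this.inv_inv
      rw [mul_inv_rev, inv_inv, h3.eq]

/-- words in `a b c x y w z` -/
theorem prod1 (i : ℕ) : ((w1 i).map (letter a b c x y w z)).prod = four z u c (b * c * b) i := by
  rw [prod_w1, D.F.u_def]
  rfl

theorem prod2 (i : ℕ) : ((w2 i).map (letter a b c x y w z)).prod = four z u a (b * a * b) i := by
  rw [prod_w2, D.F.u_def]
  rfl

theorem cj_letter {fam : ℕ → List ℕ} (hlt : ∀ i < 16, ∀ k ∈ fam i, k < 7) {k i j : ℕ} (hk : k < 7)
    (hi : i < 16) (hj : j < 16) (h : chk (k :: fam i) (fam j ++ [k]) = true) :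
    cj (letter a b c x y w z k) ((fam i).map (letter a b c x y w z)).prod =
      ((fam j).map (letter a b c x y w z)).prod := by
  rw [cj_eq]
  have := D.F.words (k :: fam i) (fam j ++ [k]) (by
    intro l hl
    rcases List.mem_cons.1 hl with h | h
    · rw [h]; exact hk
    · exact hlt i hi l h) (by
    intro l hl
    rcases List.mem_append.1 hl with h | h
    · exact hlt j hj l h
    · rw [List.mem_singleton.1 h]; exact hk) h
  rwa [List.map_cons, List.prod_cons, List.map_append, List.prod_append, List.map_singleton,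
    List.prod_singleton] at this

theorem cj_letter1 {k : ℕ} (hk : k < 5) (i : ℕ) :
    cj (letter a b c x y w z k) (four z u c (b * c * b) i) =
      four z u c (b * c * b) (lin (m1 k) i) := by
  obtain ⟨h0, h1, h2, h3⟩ := chk_m1 k hk
  obtain ⟨l0, l1, l2, l3⟩ := m1_lt k (by omega)
  have e0 := D.cj_letter w1_lt' (by omega) (by norm_num) l0 h0
  have e1 := D.cj_letter w1_lt' (by omega) (by norm_num) l1 h1
  have e2 := D.cj_letter w1_lt' (by omega) (by norm_num) l2 h2
  have e3 := D.cj_letter w1_lt' (by omega) (by norm_num) l3 h3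
  rw [D.prod1, D.prod1] at e0 e1 e2 e3
  rw [four_one] at e0
  rw [four_two] at e1
  rw [four_four] at e2
  rw [four_eight] at e3
  exact cj_four_of D.F.four₁ e0 e1 e2 e3 i

theorem cj_letter2 {k : ℕ} (hk : k < 6) (hk3 : k ≠ 3) (i : ℕ) :
    cj (letter a b c x y w z k) (four z u a (b * a * b) i) =
      four z u a (b * a * b) (lin (m2 k) i) := by
  obtain ⟨h0, h1, h2, h3⟩ := chk_m2 k hk hk3
  obtain ⟨l0, l1, l2, l3⟩ := m2_lt k (by omega)
  have e0 := D.cj_letter w2_lt' (by omega) (by norm_num) l0 h0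
  have e1 := D.cj_letter w2_lt' (by omega) (by norm_num) l1 h1
  have e2 := D.cj_letter w2_lt' (by omega) (by norm_num) l2 h2
  have e3 := D.cj_letter w2_lt' (by omega) (by norm_num) l3 h3
  rw [D.prod2, D.prod2] at e0 e1 e2 e3
  rw [four_one] at e0
  rw [four_two] at e1
  rw [four_four] at e2
  rw [four_eight] at e3
  exact cj_four_of D.F.four₂ e0 e1 e2 e3 i

theorem cj_g1 (i : ℕ) : cj (b * (d * (y * b)⁻¹)) (four z u c (b * c * b) i) =
    four z u c (b * c * b) (lin (m1 6) i) := by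
  have hz : cj b z = z := cj_eq_self.2 D.F.bz
  have hu : cj b u = z * u := cj_eq.2 D.F.ub
  have hc : cj b c = b * c * b := by rw [cj, D.hbi]
  have hc' : cj b (b * c * b) = c := by
    rw [cj, D.hbi]
    calc b * (b * c * b) * b = (b * b) * c * (b * b) := by group
      _ = c := by rw [D.F.bb, one_mul, mul_one]
  refine cj_four_of D.F.four₁ ?_ ?_ ?_ ?_ i
  · rw [cj_mul_left, D.ez, hu]
    simp [m1, four, Nat.testBit]
  · rw [cj_mul_left, D.eu, cj_mul, hz, hu, ← mul_assoc, D.F.zz, one_mul]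
    simp [m1, four, Nat.testBit]
  · rw [cj_mul_left, D.ec, hc']
    simp [m1, four, Nat.testBit]
  · rw [cj_mul_left, D.ec', cj_mul, hc, hc', ← D.F.c_c']
    simp [m1, four, Nat.testBit]

theorem cj_g2 (i : ℕ) : cj (b * (d * (y * b)⁻¹)) (four z u a (b * a * b) i) =
    four z u a (b * a * b) (lin (m2 6) i) := by
  have hz : cj b z = z := cj_eq_self.2 D.F.bz
  have hu : cj b u = z * u := cj_eq.2 D.F.ub
  have ha : cj b a = b * a * b := by rw [cj, D.hbi]
  have ha' : cj b (b * a * b) = a := by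
    rw [cj, D.hbi]
    calc b * (b * a * b) * b = (b * b) * a * (b * b) := by group
      _ = a := by rw [D.F.bb, one_mul, mul_one]
  refine cj_four_of D.F.four₂ ?_ ?_ ?_ ?_ i
  · rw [cj_mul_left, D.ez, hu]
    simp [m2, four, Nat.testBit]
  · rw [cj_mul_left, D.eu, cj_mul, hz, hu, ← mul_assoc, D.F.zz, one_mul]
    simp [m2, four, Nat.testBit]
  · rw [cj_mul_left, D.ea, cj_mul, ha, ha', ← D.F.a_a']
    simp [m2, four, Nat.testBit]
  · rw [cj_mul_left, D.ea', ha]
    simp [m2, four, Nat.testBit]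

omit D in
/-- the letters as a function on `ℕ` -/
theorem gen_eq (k : Fin 7) (hk : (k : ℕ) ≠ 6) :
    gen a b c x y w (b * (d * (y * b)⁻¹)) k = letter a b c x y w z (k : ℕ) := by
  fin_cases k
  · rfl
  · rfl
  · rfl
  · rfl
  · rfl
  · rfl
  · exact absurd rfl hk

theorem cj_gen1 (k : Fin 7) (hk : (k : ℕ) ≠ 5) (i : ℕ) :
    cj (gen a b c x y w (b * (d * (y * b)⁻¹)) k) (four z u c (b * c * b) i) =
      four z u c (b * c * b) (lin (m1 k) i) := by
  by_cases h6 : (k : ℕ) = 6
  · have hk6 : k = 6 := Fin.ext h6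
    subst hk6
    exact D.cj_g1 i
  · rw [gen_eq k h6]
    exact D.cj_letter1 (by omega) i

theorem cj_gen2 (k : Fin 7) (hk : (k : ℕ) ≠ 3) (i : ℕ) :
    cj (gen a b c x y w (b * (d * (y * b)⁻¹)) k) (four z u a (b * a * b) i) =
      four z u a (b * a * b) (lin (m2 k) i) := by
  by_cases h6 : (k : ℕ) = 6
  · have hk6 : k = 6 := Fin.ext h6
    subst hk6
    exact D.cj_g2 i
  · rw [gen_eq k h6]
    exact D.cj_letter2 (by omega) hk i

end Data

/-- action of a word -/
def apw (m : ℕ → ℕ × ℕ × ℕ × ℕ) (r : List (Fin 7)) (i : ℕ) : ℕ :=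
  r.foldr (fun k i => lin (m k) i) i

/-- the test for fixed-point-free words -/
def tFpf (m : ℕ → ℕ × ℕ × ℕ × ℕ) (bad : ℕ) (r : List (Fin 7)) (n : ℕ) : Bool :=
  (r.all fun k => (Nat.beq k bad).not).and
    ((allb 16 fun i => (Nat.beq i 0).or (Nat.beq (apw m r i) i).not).and
      ((allb 16 fun i => Nat.beq ((apw m r)^[n] i) i).and (allb 16 fun i => Nat.blt (apw m r i) 16)))

/-- the test for words in `a b c x y w` -/
def tC (r : List (Fin 7)) : Bool :=
  (r.all fun k => (Nat.beq k 6).not).and (chk (r.map Fin.val) [])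

/-- `e ^ i` times a letter in the form `W e ^ j`, together with a validity flag -/
def nvs : ℕ → ℕ → List ℕ × ℕ × Bool
  | 0, 0 => ([0], 0, true)
  | 0, 1 => ([0, 1, 0, 1], 1, true)
  | 0, 2 => ([1, 0, 1], 2, true)
  | 1, 0 => ([1], 0, true)
  | 1, 1 => ([1], 2, true)
  | 1, 2 => ([1], 1, true)
  | 2, 0 => ([2], 0, true)
  | 2, 1 => ([1, 2, 1], 1, true)
  | 2, 2 => ([2, 1, 2, 1], 2, true)
  | 4, 0 => ([4], 0, true)
  | 4, 1 => ([4], 2, true)
  | 4, 2 => ([4], 1, true)
  | 6, 0 => ([1], 1, true)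
  | 6, 1 => ([1], 0, true)
  | 6, 2 => ([1], 2, true)
  | _, _ => ([], 0, false)

/-- evaluation of a word in `a b c y g` in the form `W e ^ i`, together with a validity flag -/
def nv : List (Fin 7) → List ℕ → ℕ → Bool → List ℕ × ℕ × Bool
  | [], W, i, f => (W, i, f)
  | k :: r, W, i, f => nv r (W ++ (nvs k i).1) (nvs k i).2.1 (f.and (nvs k i).2.2)

/-- the test for words in `a b c y g` -/
def tN (r : List (Fin 7)) : Bool :=
  (nv r [] 0 true).2.2.and ((Nat.beq (nv r [] 0 true).2.1 0).and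
    (((nv r [] 0 true).1.all fun k => Nat.blt k 7).and (chk (nv r [] 0 true).1 [])))

/-- repeated word -/
def rep (r : List (Fin 7)) (n : ℕ) : List (Fin 7) := (List.replicate n r).flatten

/-- the test for relators -/
def ok (r : List (Fin 7)) : Bool :=
  (tC r).or ((tN r).or ([3, 5, 7].any fun n =>
    ((rep (r.take (r.length / n)) n == r).and
      ((tFpf m1 5 (r.take (r.length / n)) n).or (tFpf m2 3 (r.take (r.length / n)) n)))))

namespace Data

variable {G : Type*} [Group G] {z a b c x y w u d : G} (D : Data z a b c x y w u d)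

include D

theorem fpf₁ {r : List (Fin 7)} {n : ℕ} (h : tFpf m1 5 r n = true) :
    ((r.map (gen a b c x y w (b * (d * (y * b)⁻¹)))).prod) ^ n = 1 := by
  simp only [tFpf, Bool.and_eq_true, List.all_eq_true, allb_iff, Bool.or_eq_true, not_beq,
    Nat.beq_eq, Nat.blt_eq] at h
  obtain ⟨h1, h2, h3, h4⟩ := h
  set W := (r.map (gen a b c x y w (b * (d * (y * b)⁻¹)))).prod with hW
  have hcj : ∀ i, cj W (four z u c (b * c * b) i) = four z u c (b * c * b) (apw m1 r i) := by
    rw [hW]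
    clear hW h2 h3 h4
    clear W
    induction r with
    | nil => intro i; exact one_cj _
    | cons k r ih =>
      intro i
      rw [List.map_cons, List.prod_cons, cj_mul_left, ih (fun l hl => h1 l (List.mem_cons_of_mem _ hl)),
        D.cj_gen1 k (h1 k List.mem_cons_self)]
      rfl
  have hpow : ∀ (n i : ℕ), cj (W ^ n) (four z u c (b * c * b) i) =
      four z u c (b * c * b) ((apw m1 r)^[n] i) := by
    intro n
    induction n with
    | zero => intro i; rw [pow_zero, one_cj]; rfl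
    | succ n ih => intro i; rw [pow_succ, cj_mul_left, hcj, ih]; rfl
  have hfix : ∀ i < 16, cj (W ^ n) (four z u c (b * c * b) i) = four z u c (b * c * b) i := by
    intro i hi
    rw [hpow, h3 i hi]
  obtain ⟨j, hj, h5⟩ := D.F.cent₁ (W ^ n)
    (cj_eq_self.1 (by have := hfix 1 (by norm_num); rwa [four_one] at this))
    (cj_eq_self.1 (by have := hfix 2 (by norm_num); rwa [four_two] at this))
    (cj_eq_self.1 (by have := hfix 4 (by norm_num); rwa [four_four] at this))
    (cj_eq_self.1 (by have := hfix 8 (by norm_num); rwa [four_eight] at this))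
  have h6 : cj W (W ^ n) = W ^ n := by rw [cj_pow, cj_eq_self.2 rfl]
  rw [h5, hcj] at h6
  have h7 := D.F.inj₁ _ (h4 j hj) _ hj h6
  rcases h2 j hj with h8 | h8
  · rw [h5, h8, four_zero]
  · exact absurd h7 h8

theorem fpf₂ {r : List (Fin 7)} {n : ℕ} (h : tFpf m2 3 r n = true) :
    ((r.map (gen a b c x y w (b * (d * (y * b)⁻¹)))).prod) ^ n = 1 := by
  simp only [tFpf, Bool.and_eq_true, List.all_eq_true, allb_iff, Bool.or_eq_true, not_beq,
    Nat.beq_eq, Nat.blt_eq] at h
  obtain ⟨h1, h2, h3, h4⟩ := h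
  set W := (r.map (gen a b c x y w (b * (d * (y * b)⁻¹)))).prod with hW
  have hcj : ∀ i, cj W (four z u a (b * a * b) i) = four z u a (b * a * b) (apw m2 r i) := by
    rw [hW]
    clear hW h2 h3 h4
    clear W
    induction r with
    | nil => intro i; exact one_cj _
    | cons k r ih =>
      intro i
      rw [List.map_cons, List.prod_cons, cj_mul_left, ih (fun l hl => h1 l (List.mem_cons_of_mem _ hl)),
        D.cj_gen2 k (h1 k List.mem_cons_self)]
      rfl
  have hpow : ∀ (n i : ℕ), cj (W ^ n) (four z u a (b * a * b) i) =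
      four z u a (b * a * b) ((apw m2 r)^[n] i) := by
    intro n
    induction n with
    | zero => intro i; rw [pow_zero, one_cj]; rfl
    | succ n ih => intro i; rw [pow_succ, cj_mul_left, hcj, ih]; rfl
  have hfix : ∀ i < 16, cj (W ^ n) (four z u a (b * a * b) i) = four z u a (b * a * b) i := by
    intro i hi
    rw [hpow, h3 i hi]
  obtain ⟨j, hj, h5⟩ := D.F.cent₂ (W ^ n)
    (cj_eq_self.1 (by have := hfix 1 (by norm_num); rwa [four_one] at this))
    (cj_eq_self.1 (by have := hfix 2 (by norm_num); rwa [four_two] at this))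
    (cj_eq_self.1 (by have := hfix 4 (by norm_num); rwa [four_four] at this))
    (cj_eq_self.1 (by have := hfix 8 (by norm_num); rwa [four_eight] at this))
  have h6 : cj W (W ^ n) = W ^ n := by rw [cj_pow, cj_eq_self.2 rfl]
  rw [h5, hcj] at h6
  have h7 := D.F.inj₂ _ (h4 j hj) _ hj h6
  rcases h2 j hj with h8 | h8
  · rw [h5, h8, four_zero]
  · exact absurd h7 h8

theorem tC_spec {r : List (Fin 7)} (h : tC r = true) :
    (r.map (gen a b c x y w (b * (d * (y * b)⁻¹)))).prod = 1 := by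
  simp only [tC, Bool.and_eq_true, List.all_eq_true, not_beq] at h
  obtain ⟨h1, h2⟩ := h
  have h3 := D.F.words _ [] (by
    intro k hk
    obtain ⟨l, -, rfl⟩ := List.mem_map.1 hk
    exact l.2) (by simp) h2
  rw [List.map_map, List.map_nil, List.prod_nil] at h3
  rw [← h3]
  congr 1
  refine List.map_congr_left fun k hk => ?_
  exact gen_eq k (h1 k hk)

theorem nvs_spec (k : Fin 7) {i : ℕ} (hi : i < 3) (hf : (nvs k i).2.2 = true) :
    (nvs k i).2.1 < 3 ∧ (d * (y * b)⁻¹) ^ i * gen a b c x y w (b * (d * (y * b)⁻¹)) k =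
      ((nvs k i).1.map (letter a b c x y w z)).prod * (d * (y * b)⁻¹) ^ (nvs k i).2.1 := by
  have ea := cj_eq.1 D.ea
  have ea' := cj_eq.1 D.ea'
  have ec := cj_eq.1 D.ec
  have ec' := cj_eq.1 D.ec'
  have heρ : (d * (y * b)⁻¹) * (y * b) = (y * b) * (d * (y * b)⁻¹) := by
    have h := D.d_comm
    have h2 : Commute d (y * b) := by
      have : Commute d (y * b)⁻¹ := h
      simpa using this.inv_right
    rw [mul_assoc, inv_mul_cancel, mul_one, h, ← mul_assoc, mul_inv_cancel, one_mul]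
  have e3 := D.e3
  have be := D.be
  generalize d * (y * b)⁻¹ = e at ea ea' ec ec' heρ e3 be ⊢
  have ei : e⁻¹ = e * e := by
    rw [inv_eq_iff_mul_eq_one, ← e3]
    simp only [pow_succ, pow_zero, one_mul, mul_assoc]
  have eee : e * e * e = 1 := by
    rw [← e3]; simp only [pow_succ, pow_zero, one_mul]
  rw [ei] at be
  have bb := D.F.bb
  have ye : e * y = y * (e * e) := by
    calc e * y = e * (y * b) * b := by rw [mul_assoc, mul_assoc, bb, mul_one]
      _ = (y * b) * (e * b) := by rw [heρ, mul_assoc]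
      _ = y * (b * b) * (e * e) := by rw [be]; group
      _ = y * (e * e) := by rw [bb, mul_one]
  have be2 : e * e * b = b * e := by
    calc e * e * b = e * (e * b) := by group
      _ = e * (b * (e * e)) := by rw [be]
      _ = (e * b) * (e * e) := by group
      _ = (b * (e * e)) * (e * e) := by rw [be]
      _ = b * (e * e * e) * e := by group
      _ = b * e := by rw [eee, mul_one]
  have ye2 : e * e * y = y * e := by
    calc e * e * y = e * (e * y) := by group
      _ = e * (y * (e * e)) := by rw [ye]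
      _ = (e * y) * (e * e) := by group
      _ = (y * (e * e)) * (e * e) := by rw [ye]
      _ = y * (e * e * e) * e := by group
      _ = y * e := by rw [eee, mul_one]
  have ea2 : e * e * a = b * a * b * (e * e) := by
    calc e * e * a = e * (e * a) := by group
      _ = e * (a * (b * a * b) * e) := by rw [ea]
      _ = (e * a) * (b * a * b) * e := by group
      _ = (a * (b * a * b) * e) * (b * a * b) * e := by rw [ea]
      _ = a * (b * a * b) * (e * (b * a * b)) * e := by group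
      _ = a * (b * a * b) * (a * e) * e := by rw [ea']
      _ = (a * (b * a * b)) * a * (e * e) := by group
      _ = (b * a * b * a) * a * (e * e) := by rw [D.F.a_a']
      _ = b * a * b * (a * a) * (e * e) := by group
      _ = _ := by rw [D.F.aa, mul_one]
  have ec2 : e * e * c = c * (b * c * b) * (e * e) := by
    calc e * e * c = e * (e * c) := by group
      _ = (e * (b * c * b)) * e := by rw [ec]; group
      _ = _ := by rw [ec']; group
  fin_cases k <;> interval_cases i
  all_goals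
    first
    | (exfalso; revert hf; decide)
    | skip
  all_goals refine ⟨by decide, ?_⟩
  all_goals simp only [nvs, gen, letter, List.map_cons, List.map_nil, List.prod_cons,
    List.prod_nil, mul_one, pow_zero, one_mul, pow_one, pow_two]
  · rfl
  · change e * a = _
    rw [ea]; simp only [mul_assoc]
  · change e * e * a = _
    rw [ea2]; simp only [mul_assoc]
  · rfl
  · exact be
  · exact be2
  · rfl
  · change e * c = _
    rw [ec]; simp only [mul_assoc]
  · change e * e * c = _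
    rw [ec2]; simp only [mul_assoc]
  · rfl
  · exact ye
  · exact ye2
  · rfl
  · change e * (b * e) = b
    rw [← mul_assoc, be, mul_assoc, mul_assoc, ← mul_assoc e e e, eee, mul_one]
  · change e * e * (b * e) = b * (e * e)
    rw [← mul_assoc, be2, mul_assoc]

theorem nv_spec (r : List (Fin 7)) : ∀ (W : List ℕ) (i : ℕ) (f : Bool), i < 3 →
    (nv r W i f).2.2 = true →
      f = true ∧ (W.map (letter a b c x y w z)).prod * (d * (y * b)⁻¹) ^ i *
        (r.map (gen a b c x y w (b * (d * (y * b)⁻¹)))).prod =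
          ((nv r W i f).1.map (letter a b c x y w z)).prod *
            (d * (y * b)⁻¹) ^ (nv r W i f).2.1 := by
  induction r with
  | nil =>
    intro W i f _ hf
    exact ⟨hf, by simp [nv]⟩
  | cons k r ih =>
    intro W i f hi hf
    rw [nv] at hf
    have hi' : (nvs k i).2.1 < 3 := by
      have : ∀ k : Fin 7, ∀ i < 3, (nvs k i).2.1 < 3 := by decide
      exact this k i hi
    obtain ⟨h1, h2⟩ := ih _ _ _ hi' hf
    rw [Bool.and_eq_true] at h1
    refine ⟨h1.1, ?_⟩
    rw [nv, ← h2, List.map_cons, List.prod_cons, List.map_append, List.prod_append]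
    have h3 := (D.nvs_spec k hi h1.2).2
    calc (W.map (letter a b c x y w z)).prod * (d * (y * b)⁻¹) ^ i *
          (gen a b c x y w (b * (d * (y * b)⁻¹)) k *
            (r.map (gen a b c x y w (b * (d * (y * b)⁻¹)))).prod) =
        (W.map (letter a b c x y w z)).prod * ((d * (y * b)⁻¹) ^ i *
          gen a b c x y w (b * (d * (y * b)⁻¹)) k) *
            (r.map (gen a b c x y w (b * (d * (y * b)⁻¹)))).prod := by
          simp only [mul_assoc]
      _ = _ := by rw [h3]; simp only [mul_assoc]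

theorem tN_spec {r : List (Fin 7)} (h : tN r = true) :
    (r.map (gen a b c x y w (b * (d * (y * b)⁻¹)))).prod = 1 := by
  simp only [tN, Bool.and_eq_true, Nat.beq_eq, List.all_eq_true, Nat.blt_eq] at h
  obtain ⟨h1, h2, h3, h4⟩ := h
  have h5 := (D.nv_spec r [] 0 true (by norm_num) h1).2
  rw [h2, List.map_nil, List.prod_nil, pow_zero, mul_one, one_mul, mul_one] at h5
  rw [h5]
  exact D.F.words _ [] h3 (by simp) h4

omit D in
theorem prod_rep (f : Fin 7 → G) (r : List (Fin 7)) (n : ℕ) :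
    ((rep r n).map f).prod = ((r.map f).prod) ^ n := by
  rw [rep]
  induction n with
  | zero => simp
  | succ n ih =>
    rw [List.replicate_succ, List.flatten_cons, List.map_append, List.prod_append, ih, pow_succ']

/-- **The relators hold.** -/
theorem ok_spec {r : List (Fin 7)} (h : ok r = true) :
    (r.map (gen a b c x y w (b * (d * (y * b)⁻¹)))).prod = 1 := by
  rw [ok, Bool.or_eq_true, Bool.or_eq_true, List.any_eq_true] at h
  rcases h with h | h | ⟨n, -, h⟩
  · exact D.tC_spec h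
  · exact D.tN_spec h
  · rw [Bool.and_eq_true, beq_iff_eq, Bool.or_eq_true] at h
    obtain ⟨h1, h2⟩ := h
    rw [← h1, prod_rep]
    rcases h2 with h2 | h2
    · exact D.fpf₁ h2
    · exact D.fpf₂ h2

end Data

/-- the relators of the blueprint -/
def bp : List (List (Fin 7)) := [
  [0, 0], [1, 1], [2, 2], [3, 3], [4, 4], [5, 5], [6, 6],
  rep [0, 1] 4, rep [0, 3] 3, rep [1, 3] 2, rep [0, 4] 2, rep [1, 4] 3, rep [3, 4] 4,
  rep [0, 1, 3] 3, rep [0, 1, 4] 3, rep [0, 3, 4] 3, rep [1, 2] 4, rep [2, 5] 3, rep [1, 5] 2,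
  rep [2, 4] 2, rep [4, 5] 4, rep [2, 1, 4] 3, rep [1, 5, 4] 3,
  rep [2, 1, 5] 3 ++ [0, 2, 0, 2], rep [2, 5, 4] 3 ++ [0, 2, 0, 2], rep [2, 3] 2 ++ [0, 2, 0, 2],
  rep [3, 5] 2 ++ [0, 2, 0, 2], rep [5, 0] 2 ++ [0, 2, 0, 2], rep [0, 2, 0, 2, 1] 2,
  rep [0, 2, 0, 2, 4] 2, rep [0, 2] 4,
  rep [1, 6] 3, rep [1, 6, 4] 2, rep [6, 2] 2, [6, 0, 6, 4, 1, 0, 1, 4],
  [6, 0, 6, 1, 0, 1, 0], [6, 1, 2, 1, 6, 2, 1, 2, 1],
  rep [6, 3] 5, rep [3, 4, 1, 6] 5, rep [0, 3, 6, 3, 6] 5,
  rep [6, 5] 5, rep [5, 4, 6] 5, rep [2, 5, 6, 5, 6, 1] 5]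

theorem bp_ok : bp.all ok = true := by decide +kernel

end Cfsg.Agent.McLType.Relators
end
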